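import Groth.Agent.Funfld2.WDiv.Charts
import Mathlib.AlgebraicGeometry.AffineSpace

/-! Polynomial charts of affine space. -/

set_option linter.style.haveILetI false

universe u

open CategoryTheory CategoryTheory.Limits AlgebraicGeometry TopologicalSpace

namespace Groth.Funfld2.WDiv

theorem hasPolyCharts_affineSpace (σ : Type u) (X : Scheme.{u}) [IsIntegral X] [IsLocallyNoetherian X] :
    HasPolyCharts (𝔸(σ; X) ↘ X) σ := by
  intro x
  obtain ⟨U, hU, hxU, -⟩ := exists_isAffineOpen_mem_and_subset (x := x) (U := ⊤) trivial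
  haveI : Nonempty U := ⟨⟨x, hxU⟩⟩
  haveI : IsNoetherianRing Γ(X, U) := IsLocallyNoetherian.component_noetherian ⟨U, hU⟩
  refine ⟨Γ(X, U), inferInstance, inferInstance, hU.fromSpec, inferInstance,
    (AffineSpace.SpecIso σ Γ(X, U)).inv ≫ AffineSpace.map σ hU.fromSpec, ?_, ?_, ?_, ?_⟩
  · haveI : IsOpenImmersion (AffineSpace.map σ hU.fromSpec) :=
      MorphismProperty.of_isPullback (P := @IsOpenImmersion)
        (AffineSpace.isPullback_map (n := σ) hU.fromSpec).flip inferInstance
    infer_instance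
  · rw [hU.range_fromSpec]; exact hxU
  · rw [Category.assoc, AffineSpace.map_over, AffineSpace.SpecIso_inv_over_assoc]
  · rintro y ⟨a, ha⟩
    obtain ⟨o, ho, -⟩ := Scheme.exists_preimage_of_isPullback
      (AffineSpace.isPullback_map (n := σ) hU.fromSpec) y a ha.symm
    refine ⟨(AffineSpace.SpecIso σ Γ(X, U)).hom o, ?_⟩
    rw [← Scheme.Hom.comp_apply, Iso.hom_inv_id_assoc]
    exact ho

theorem affineSpace_specializes (σ : Type u) [Finite σ] (X : Scheme.{u}) [IsIntegral X]
    [IsLocallyNoetherian X] :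
    (𝔸(σ; X) ↘ X) (genericPoint ↥(𝔸(σ; X))) ⤳ genericPoint X := by
  obtain ⟨A, _, _, ι, _, j, _, -, w, -⟩ := hasPolyCharts_affineSpace σ X (genericPoint X)
  refine specializes_of_eq ?_
  rw [← genericPoint_eq_of_isOpenImmersion j, ← Scheme.Hom.comp_apply, w, Scheme.Hom.comp_apply,
    polyProj_generic, genericPoint_eq_of_isOpenImmersion ι]

theorem affineSpace_isNoetherian (σ : Type u) [Finite σ] (X : Scheme.{u}) [IsNoetherian X]
    [IsLocallyNoetherian 𝔸(σ; X)] : IsNoetherian 𝔸(σ; X) := by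
  haveI : CompactSpace ↥(𝔸(σ; X)) := QuasiCompact.compactSpace_of_compactSpace (𝔸(σ; X) ↘ X)
  constructor

end Groth.Funfld2.WDiv
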