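import Groth.Agent.Funfld2.WDiv.SpecPoly

/-! Divisor classes of a scheme with polynomial charts over its base. -/

set_option linter.style.haveILetI false
set_option linter.unusedSectionVars false

universe u

open CategoryTheory AlgebraicGeometry TopologicalSpace

namespace Groth.Funfld2.WDiv

/-- `q` is, locally on the base, the projection of a polynomial ring. -/
def HasPolyCharts {X Y : Scheme.{u}} (q : Y ⟶ X) (σ : Type u) : Prop :=
  ∀ x : X, ∃ (A : CommRingCat.{u}) (_ : IsDomain A) (_ : IsNoetherianRing A) (ι : Spec A ⟶ X)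
    (_ : IsOpenImmersion ι) (j : Spec (PolyR A σ) ⟶ Y) (_ : IsOpenImmersion j),
    x ∈ Set.range ι ∧ j ≫ q = polyProj A σ ≫ ι ∧ ∀ y, q y ∈ Set.range ι → y ∈ Set.range j

theorem isDVR_of_isOpenImmersion {X Y : Scheme.{u}} [IsIntegral X] [IsIntegral Y] (f : X ⟶ Y)
    [IsOpenImmersion f] (x : X) (h : IsDiscreteValuationRing (Y.presheaf.stalk (f x))) :
    IsDiscreteValuationRing (X.presheaf.stalk x) :=
  IsDiscreteValuationRing.RingEquivClass.isDiscreteValuationRing (asIso (f.stalkMap x)).commRingCatIsoToRingEquiv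

theorem coheight_genericPoint_ne_one {X : Scheme.{u}} [IsIntegral X] :
    Order.coheight (genericPoint X) ≠ 1 := by
  intro h
  have h' := ringKrullDim_stalk_eq_coheight (X := X) (genericPoint X)
  rw [h, ringKrullDim_eq_zero_of_isField (Field.toIsField X.functionField)] at h'
  exact zero_ne_one (WithBot.coe_injective h')

variable {X Y : Scheme.{u}} [IsIntegral X] [IsNoetherian X] [IsIntegral Y] [IsLocallyNoetherian Y]
  {q : Y ⟶ X} {σ : Type u} [Finite σ]

theorem chart_generic {A : CommRingCat.{u}} [IsDomain A] {ι : Spec A ⟶ X} [IsOpenImmersion ι]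
    {j : Spec (PolyR A σ) ⟶ Y} (w : j ≫ q = polyProj A σ ≫ ι) (z : Spec (PolyR A σ)) :
    q (j z) = genericPoint X ↔ polyProj A σ z = genericPoint (Spec A) := by
  rw [← Scheme.Hom.comp_apply, w, Scheme.Hom.comp_apply, ← genericPoint_eq_of_isOpenImmersion ι]
  exact ⟨fun h => ι.isOpenEmbedding.injective h, fun h => congrArg _ h⟩

theorem exists_pole_free_base (hc : HasPolyCharts q σ) (hq : q (genericPoint Y) ⤳ genericPoint X)
    (hR1 : ∀ x : X, Order.coheight x = 1 → IsDiscreteValuationRing (X.presheaf.stalk x))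
    (g : Y.functionField) (hg : g ≠ 0)
    (h : ∀ y : Y, Order.coheight y = 1 → q y = genericPoint X → Scheme.ord g y = 0) :
    ∃ f : X.functionField, f ≠ 0 ∧ ffPull q hq f = g ∧
      ∀ x : X, Order.coheight x = 1 → ∃ y : Y, q y = x ∧ Order.coheight y = 1 ∧
        Scheme.ord g y = Scheme.ord f x := by
  obtain ⟨A, _, _, ι, _, j, _, hx, w, hr⟩ := hc (genericPoint X)
  obtain ⟨f₀, hf₀, hfg⟩ := mem_range_of_horizontal A σ (ffMap j g) ((map_ne_zero _).2 hg)
    fun z hz hzg => by
      rw [ord_ffMap j hz]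
      exact h _ ((coheight_apply j z).trans hz) ((chart_generic w z).2 hzg)
  obtain ⟨f, rfl⟩ := ffMap_surjective ι f₀
  have hpull : ffPull q hq f = g := (ffMap j).injective (by
    rw [isPullback_square q (polyProj A σ) ι j w hq (polyProj_specializes A σ), hfg])
  refine ⟨f, fun e => hf₀ (by rw [e, map_zero]), hpull, fun x hx => ?_⟩
  obtain ⟨B, _, _, ι', _, j', _, ⟨a, rfl⟩, w', -⟩ := hc x
  have ha : Order.coheight a = 1 := (coheight_apply ι' a).symm.trans hx
  obtain ⟨z, hza, hz, hzord⟩ := exists_above B σ ha (isDVR_of_isOpenImmersion ι' a (hR1 _ hx))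
  refine ⟨j' z, ?_, (coheight_apply j' z).trans hz, ?_⟩
  · rw [← Scheme.Hom.comp_apply, w', Scheme.Hom.comp_apply, hza]
  · rw [← ord_ffMap j' hz, ← hpull, isPullback_square q (polyProj B σ) ι' j' w' hq (polyProj_specializes B σ),
      hzord, ord_ffMap ι' ha]

theorem principal_of_pullback (hc : HasPolyCharts q σ) (hq : q (genericPoint Y) ⤳ genericPoint X)
    (hR1 : ∀ x : X, Order.coheight x = 1 → IsDiscreteValuationRing (X.presheaf.stalk x))
    (D : X → ℤ) (hD : ∀ x, Order.coheight x ≠ 1 → D x = 0) (g : Y.functionField) (hg : g ≠ 0)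
    (h : ∀ y : Y, Order.coheight y = 1 → Scheme.ord g y = D (q y)) :
    ∃ f : X.functionField, f ≠ 0 ∧ ffPull q hq f = g ∧
      ∀ x : X, Order.coheight x = 1 → Scheme.ord f x = D x := by
  obtain ⟨f, hf, hfg, hord⟩ := exists_pole_free_base hc hq hR1 g hg fun y hy hyg => by
    rw [h y hy, hyg, hD _ coheight_genericPoint_ne_one]
  refine ⟨f, hf, hfg, fun x hx => ?_⟩
  obtain ⟨y, hyx, hy, e⟩ := hord x hx
  rw [← e, h y hy, hyx]

theorem coheight_of_vertical (hc : HasPolyCharts q σ) {y : Y} (hy : Order.coheight y = 1)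
    (hne : q y ≠ genericPoint X) : Order.coheight (q y) = 1 := by
  obtain ⟨A, _, _, ι, _, j, _, hx, w, hr⟩ := hc (q y)
  obtain ⟨z, rfl⟩ := hr y hx
  have hz : Order.coheight z = 1 := (coheight_apply j z).symm.trans hy
  rw [← Scheme.Hom.comp_apply, w, Scheme.Hom.comp_apply, coheight_apply ι]
  exact (vertical_point A σ hz fun e => hne ((chart_generic w z).2 e)).1

theorem fibre_unique (hc : HasPolyCharts q σ) {y y' : Y} (hy : Order.coheight y = 1)
    (hy' : Order.coheight y' = 1) (hx : Order.coheight (q y) = 1) (e : q y' = q y) : y' = y := by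
  obtain ⟨A, _, _, ι, _, j, _, hx', w, hr⟩ := hc (q y)
  obtain ⟨z', rfl⟩ := hr y' (e ▸ hx')
  obtain ⟨z, rfl⟩ := hr y hx'
  have hne : ∀ v : Spec (PolyR A σ), q (j v) = q (j z) → polyProj A σ v ≠ genericPoint (Spec A) :=
    fun v hv hvg => coheight_genericPoint_ne_one (X := X) (by rw [← (chart_generic w v).2 hvg, hv]; exact hx)
  have h1 := (vertical_point A σ ((coheight_apply j z').symm.trans hy') (hne z' e)).2
  have h2 := (vertical_point A σ ((coheight_apply j z).symm.trans hy) (hne z rfl)).2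
  have e' : polyProj A σ z' = polyProj A σ z := ι.isOpenEmbedding.injective (by
    rw [← Scheme.Hom.comp_apply, ← Scheme.Hom.comp_apply, ← w, Scheme.Hom.comp_apply, Scheme.Hom.comp_apply]
    exact e)
  refine congrArg j (PrimeSpectrum.ext ?_)
  rw [h1, h2, e']

theorem ord_prod {ι : Type*} (T : Finset ι) (g : ι → Y.functionField) (hg : ∀ i ∈ T, g i ≠ 0)
    (n : ι → ℤ) {y : Y} (hy : Order.coheight y = 1) :
    Scheme.ord (∏ i ∈ T, g i ^ n i) y = ∑ i ∈ T, n i * Scheme.ord (g i) y := by
  classical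
  rw [Scheme.ord_eq_iff hy (Finset.prod_ne_zero_iff.2 fun i hi => zpow_ne_zero _ (hg i hi)), map_prod,
    Finset.prod_congr rfl fun i hi => by
      rw [map_zpow₀, (Scheme.ord_eq_iff hy (hg i hi)).1 rfl]]
  simp only [← WithZero.exp_eq_coe_ofAdd, ← WithZero.exp_zsmul, smul_eq_mul]
  clear hg
  induction T using Finset.induction_on with
  | empty => simp
  | insert i T hi ih => rw [Finset.prod_insert hi, Finset.sum_insert hi, ih, WithZero.exp_add]

theorem linEquiv_pullback [IsNoetherian Y] (hc : HasPolyCharts q σ)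
    (D' : Y → ℤ) (hD' : ∀ y, Order.coheight y ≠ 1 → D' y = 0) (hfin : {y | D' y ≠ 0}.Finite) :
    ∃ (D : X → ℤ) (g : Y.functionField), (∀ x, Order.coheight x ≠ 1 → D x = 0) ∧
      {x | D x ≠ 0}.Finite ∧ g ≠ 0 ∧
      ∀ y : Y, Order.coheight y = 1 → D' y = D (q y) + Scheme.ord g y := by
  classical
  obtain ⟨A, _, _, ι, _, j, _, hx, w, hr⟩ := hc (genericPoint X)
  set T := hfin.toFinset.filter fun y => q y = genericPoint X
  have hG : ∀ y : Y, Order.coheight y = 1 → q y = genericPoint X → ∃ g : Y.functionField, g ≠ 0 ∧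
      Scheme.ord g y = 1 ∧ ∀ y', y' ≠ y → Order.coheight y' = 1 → q y' = genericPoint X → Scheme.ord g y' = 0 := by
    intro y hy hyg
    obtain ⟨z, rfl⟩ := hr y (hyg ▸ hx)
    obtain ⟨g₀, hg₀, h1, h0⟩ := exists_horizontal_fun A σ ((coheight_apply j z).symm.trans hy)
      ((chart_generic w z).1 hyg)
    obtain ⟨g, rfl⟩ := ffMap_surjective j g₀
    refine ⟨g, fun e => hg₀ (by rw [e, map_zero]), ?_, fun y' hne hy' hyg' => ?_⟩
    · rwa [ord_ffMap j ((coheight_apply j z).symm.trans hy)] at h1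
    · obtain ⟨z', rfl⟩ := hr y' (hyg' ▸ hx)
      have hz' := (coheight_apply j z').symm.trans hy'
      rw [← ord_ffMap j hz']
      exact h0 z' (fun e => hne (by rw [e])) hz' ((chart_generic w z').1 hyg')
  choose! G hG0 hG1 hG2 using hG
  have hT : ∀ y ∈ T, Order.coheight y = 1 ∧ q y = genericPoint X := fun y hy => by
    rw [Finset.mem_filter, Set.Finite.mem_toFinset] at hy
    exact ⟨not_not.1 (mt (hD' y) hy.1), hy.2⟩
  set g := ∏ y ∈ T, G y ^ D' y
  have hTne : ∀ y ∈ T, G y ≠ 0 := fun y hy => hG0 y (hT y hy).1 (hT y hy).2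
  have hg : g ≠ 0 := Finset.prod_ne_zero_iff.2 fun y hy => zpow_ne_zero _ (hTne y hy)
  have hhor : ∀ y : Y, Order.coheight y = 1 → q y = genericPoint X → Scheme.ord g y = D' y := by
    intro y hy hyg
    rw [ord_prod T G hTne D' hy]
    by_cases hyT : y ∈ T
    · rw [Finset.sum_eq_single_of_mem y hyT (fun y' hy' hne => by
        rw [hG2 y' (hT y' hy').1 (hT y' hy').2 y hne.symm hy hyg, mul_zero]), hG1 y hy hyg, mul_one]
    · rw [Finset.sum_eq_zero (fun y' hy' => by
        rw [hG2 y' (hT y' hy').1 (hT y' hy').2 y (fun e => hyT (e ▸ hy')) hy hyg, mul_zero])]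
      by_contra hne
      exact hyT (Finset.mem_filter.2 ⟨hfin.mem_toFinset.2 (Ne.symm hne), hyg⟩)
  let D : X → ℤ := fun x => if h : ∃ y, q y = x ∧ Order.coheight y = 1 ∧ Order.coheight x = 1
    then D' h.choose - Scheme.ord g h.choose else 0
  refine ⟨D, g, fun x hx => dif_neg fun ⟨_, _, _, h⟩ => hx h, ?_, hg, fun y hy => ?_⟩
  · refine ((hfin.union (finite_ord_ne_zero g)).image q).subset fun x hx => ?_
    simp only [D, Set.mem_ofPred_eq] at hx
    split_ifs at hx with h
    · refine ⟨h.choose, ?_, h.choose_spec.1⟩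
      by_contra hne
      simp only [Set.mem_union, Set.mem_ofPred_eq, not_or, not_not, h.choose_spec.2.1, true_and] at hne
      exact hx (by rw [hne.1, hne.2, sub_zero])
    · exact absurd rfl hx
  · by_cases hyg : q y = genericPoint X
    · have : D (q y) = 0 := dif_neg fun ⟨_, _, _, h⟩ => coheight_genericPoint_ne_one (hyg ▸ h)
      rw [this, hhor y hy hyg, zero_add]
    · have hqy := coheight_of_vertical hc hy hyg
      have h : ∃ y', q y' = q y ∧ Order.coheight y' = 1 ∧ Order.coheight (q y) = 1 := ⟨y, rfl, hy, hqy⟩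
      have : D (q y) = D' y - Scheme.ord g y := by
        simp only [D, dif_pos h]
        rw [fibre_unique hc hy h.choose_spec.2.1 hqy h.choose_spec.1]
      rw [this]; ring

end Groth.Funfld2.WDiv
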