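import Groth.Agent.RefRank.Ord

/-! Orders of rational functions and open immersions. -/

universe u

open CategoryTheory AlgebraicGeometry TopologicalSpace

namespace Groth.Funfld2.WDiv

variable {X Y : Scheme.{u}} [IsIntegral X] [IsIntegral Y] (f : X ⟶ Y) [IsOpenImmersion f]

/-- The identification of function fields along an open immersion. -/
noncomputable def ffMap : Y.functionField →+* X.functionField :=
  (Y.presheaf.stalkSpecializes (show f (genericPoint X) ⤳ genericPoint Y from
    (specializes_of_eq (genericPoint_eq_of_isOpenImmersion f))) ≫ f.stalkMap (genericPoint X)).hom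

theorem ffMap_surjective : Function.Surjective (ffMap f) := by
  intro x
  obtain ⟨y, rfl⟩ := (ConcreteCategory.bijective_of_isIso (f.stalkMap (genericPoint X))).2 x
  have h : genericPoint Y ⤳ f (genericPoint X) :=
    specializes_of_eq (genericPoint_eq_of_isOpenImmersion f).symm
  refine ⟨Y.presheaf.stalkSpecializes h y, ?_⟩
  rw [ffMap, CommRingCat.hom_comp, RingHom.comp_apply]
  congr 1
  rw [← CommRingCat.comp_apply, TopCat.Presheaf.stalkSpecializes_comp,
    TopCat.Presheaf.stalkSpecializes_refl]
  rfl

theorem ffMap_bijective : Function.Bijective (ffMap f) :=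
  ⟨(ffMap f).injective, ffMap_surjective f⟩

omit [IsIntegral X] [IsIntegral Y] in
theorem coheight_apply (x : X) : Order.coheight (f x) = Order.coheight x := by
  have h := ringKrullDim_eq_of_ringEquiv (asIso (f.stalkMap x)).commRingCatIsoToRingEquiv
  rw [ringKrullDim_stalk_eq_coheight, ringKrullDim_stalk_eq_coheight] at h
  exact WithBot.coe_injective h

variable [IsLocallyNoetherian X] [IsLocallyNoetherian Y]

theorem ord_ffMap {x : X} (hx : Order.coheight x = 1) (g : Y.functionField) :
    Scheme.ord (ffMap f g) x = Scheme.ord g (f x) := by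
  have hx' : Order.coheight (f x) = 1 := (coheight_apply f x).trans hx
  rw [Groth.RefRank.ord_eq_ordK hx, Groth.RefRank.ord_eq_ordK hx']
  have := Groth.RefRank.krullDimLE_of_dim_le ((Groth.RefRank.coheight_eq_one_iff (f x)).mp hx').le
  refine Groth.RefRank.ordFrac_transport (A := Y.presheaf.stalk (f x)) (K := Y.functionField)
    (f.stalkMap x).hom (ConcreteCategory.bijective_of_isIso (f.stalkMap x)) (ffMap f)
    (ffMap_bijective f) (fun a => ?_) g
  simp only [ffMap, RingHom.algebraMap_toAlgebra, CommRingCat.hom_comp, RingHom.comp_apply]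
  rw [← Scheme.Hom.stalkSpecializes_stalkMap_apply]
  refine congrArg (f.stalkMap (genericPoint X)) ?_
  change (Y.presheaf.stalkSpecializes _) ((Y.presheaf.stalkSpecializes _) a) = _
  rw [← ConcreteCategory.comp_apply, TopCat.Presheaf.stalkSpecializes_comp]

omit [IsLocallyNoetherian X] [IsLocallyNoetherian Y] [IsIntegral X] [IsIntegral Y] in
theorem eq_of_specializes_of_coheight_eq_one {Y : Scheme.{u}} {z x : Y} (h : z ⤳ x)
    (hz : Order.coheight z = 1) (hx : Order.coheight x = 1) : x = z := by
  by_contra hne
  have hlt : x < z := lt_of_le_not_ge (Scheme.le_iff_specializes.mpr h) fun h' =>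
    hne (((Scheme.le_iff_specializes.mp h').antisymm h).eq)
  have h2 := Order.coheight_strictAnti hlt (by rw [hz]; exact ENat.natCast_lt_top 1)
  rw [hz, hx] at h2
  exact lt_irrefl _ h2

end Groth.Funfld2.WDiv
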