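import Mathlib.RingTheory.Ideal.KrullsHeightTheorem
import Mathlib.RingTheory.Polynomial.Basic
import Mathlib.RingTheory.DiscreteValuationRing.TFAE
import Mathlib.RingTheory.Localization.AtPrime.Basic
import Mathlib.RingTheory.Localization.FractionRing
import Mathlib.RingTheory.Localization.Ideal
import Mathlib.Algebra.Polynomial.FieldDivision

/-! Height one primes of polynomial rings. -/

universe u

open Polynomial

namespace Groth.Funfld2.WDiv

variable {A : Type u} [CommRing A] [IsDomain A]

theorem vertical (P : Ideal A[X]) [P.IsPrime] (hP : P.height = 1)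
    (hne : P.comap (C : A →+* A[X]) ≠ ⊥) :
    (P.comap (C : A →+* A[X])).height = 1 ∧ P = (P.comap (C : A →+* A[X])).map C := by
  set p := P.comap (C : A →+* A[X]) with hp
  have : p.IsPrime := Ideal.IsPrime.comap _
  have : (⊥ : Ideal A[X]).FiniteHeight :=
    Ideal.finiteHeight_iff_lt.2 (Or.inr (by rw [Ideal.height_bot]; exact ENat.natCast_lt_top 0))
  have : (⊥ : Ideal A).FiniteHeight :=
    Ideal.finiteHeight_iff_lt.2 (Or.inr (by rw [Ideal.height_bot]; exact ENat.natCast_lt_top 0))
  have hfin : P.FiniteHeight := Ideal.finiteHeight_iff_lt.2 (Or.inr (by rw [hP]; exact ENat.one_lt_top))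
  have key : ∀ q : Ideal A, q.IsPrime → q ≠ ⊥ → (q.map C) ≤ P → (q.map C) = P := by
    intro q hq hq0 hle
    have hq' : (q.map (C : A →+* A[X])).IsPrime := Ideal.isPrime_map_C_of_isPrime
    have hne' : q.map (C : A →+* A[X]) ≠ ⊥ := by
      rwa [Ne, Ideal.map_eq_bot_iff_of_injective C_injective]
    refine hle.eq_or_lt.resolve_right fun hlt => ?_
    have : (q.map (C : A →+* A[X])).FiniteHeight := Ideal.finiteHeight_of_le hle (Ideal.IsPrime.ne_top ‹_›)
    have h1 := Ideal.height_strict_mono_of_isPrime hlt
    have h2 := Ideal.height_strict_mono_of_isPrime (I := (⊥ : Ideal A[X])) (bot_lt_iff_ne_bot.2 hne')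
    rw [Ideal.height_bot] at h2
    rw [hP, Order.lt_one_iff] at h1
    exact h2.ne' h1
  have heq := key p inferInstance hne Ideal.map_comap_le
  refine ⟨le_antisymm ?_ ?_, heq.symm⟩
  · rw [← Nat.cast_one, Ideal.height_le_iff]
    intro q hq hqp
    by_cases h0 : q = ⊥
    · rw [h0, Ideal.height_bot]; norm_num
    · exfalso
      have h' := key q hq h0 ((Ideal.map_mono hqp.le).trans Ideal.map_comap_le)
      have := congrArg (Ideal.comap (C : A →+* A[X])) (h'.trans heq.symm)
      have hc : ∀ I : Ideal A, (I.map (C : A →+* A[X])).comap C = I := fun I => by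
        ext a
        rw [Ideal.mem_comap, Ideal.mem_map_C_iff]
        refine ⟨fun h => by simpa using h 0, fun h n => ?_⟩
        rw [coeff_C]; split_ifs
        exacts [h, I.zero_mem]
      rw [hc, hc] at this
      exact hqp.ne this
  · have h2 := Ideal.height_strict_mono_of_isPrime (I := (⊥ : Ideal A)) (bot_lt_iff_ne_bot.2 hne)
    rw [Ideal.height_bot] at h2
    rwa [Order.one_le_iff_ne_zero, ← pos_iff_ne_zero]

theorem isDVR_polynomial [IsNoetherianRing A]
    (hR1 : ∀ (p : Ideal A) [p.IsPrime], p.height = 1 →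
      IsDiscreteValuationRing (Localization.AtPrime p))
    (P : Ideal A[X]) [P.IsPrime] (hP : P.height = 1) :
    IsDiscreteValuationRing (Localization.AtPrime P) := by
  set L := Localization.AtPrime P with hL
  set j := algebraMap A[X] L with hj
  have hP0 : P ≠ ⊥ := by rintro rfl; rw [Ideal.height_bot] at hP; exact zero_ne_one hP
  have hnf : ¬ IsField L := by
    intro hf
    rw [IsLocalRing.isField_iff_maximalIdeal_eq, ← IsLocalization.AtPrime.map_eq_maximalIdeal P L,
      Ideal.map_eq_bot_iff_of_injective (IsLocalization.injective L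
        (M := P.primeCompl) P.primeCompl_le_nonZeroDivisors)] at hf
    exact hP0 hf
  have : IsNoetherianRing L := IsLocalization.isNoetherianRing P.primeCompl L inferInstance
  refine ((IsDiscreteValuationRing.TFAE L hnf).out 0 4).2 ?_
  rw [← IsLocalization.AtPrime.map_eq_maximalIdeal P L]
  suffices ∃ (T : Type u) (_ : CommRing T) (i : A[X] →+* T) (ψ : T →+* L),
      ψ.comp i = j ∧ (P.map i).IsPrincipal by
    obtain ⟨T, _, i, ψ, hψ, ⟨g, hg⟩⟩ := this
    refine ⟨ψ g, ?_⟩
    rw [← hj, ← hψ, ← Ideal.map_map, hg, Ideal.submodule_span_eq, Ideal.map_span,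
      Set.image_singleton]
  by_cases hne : P.comap (C : A →+* A[X]) = ⊥
  · -- horizontal
    have hu : ∀ a : nonZeroDivisors A, IsUnit ((j.comp C) (a : A)) := fun a =>
      IsLocalization.map_units L (⟨C (a : A), fun h => nonZeroDivisors.ne_zero a.2 (by
        have : (a : A) ∈ P.comap (C : A →+* A[X]) := h
        rwa [hne] at this)⟩ : P.primeCompl)
    refine ⟨(FractionRing A)[X], inferInstance, mapRingHom (algebraMap A (FractionRing A)),
      eval₂RingHom (IsLocalization.lift (M := nonZeroDivisors A) hu) (j X), ?_,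
      IsPrincipalIdealRing.principal _⟩
    refine Polynomial.ringHom_ext (fun a => ?_) ?_
    · simp
    · simp
  · -- vertical
    obtain ⟨hp1, hPp⟩ := vertical P hP hne
    have : (P.comap (C : A →+* A[X])).IsPrime := Ideal.IsPrime.comap _
    set p := P.comap (C : A →+* A[X]) with hp
    have := hR1 p hp1
    have hu : ∀ a : p.primeCompl, IsUnit ((j.comp C) (a : A)) := fun a =>
      IsLocalization.map_units L (⟨C (a : A), a.2⟩ : P.primeCompl)
    refine ⟨(Localization.AtPrime p)[X], inferInstance,
      mapRingHom (algebraMap A (Localization.AtPrime p)),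
      eval₂RingHom (IsLocalization.lift (M := p.primeCompl) hu) (j X), ?_, ?_⟩
    · refine Polynomial.ringHom_ext (fun a => ?_) ?_
      · simp
      · simp
    · rw [hPp, Ideal.map_map, mapRingHom_comp_C, ← Ideal.map_map]
      obtain ⟨g, hg⟩ := IsPrincipalIdealRing.principal (p.map (algebraMap A (Localization.AtPrime p)))
      exact ⟨C g, by rw [hg, Ideal.submodule_span_eq, Ideal.map_span, Set.image_singleton]⟩

end Groth.Funfld2.WDiv
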