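import Groth.Agent.Funfld2.WDiv.Charts
import Groth.Agent.Misc1.ProjSpaceCharts

/-! Divisor classes of projective space over an affine base. -/

set_option linter.style.haveILetI false
set_option linter.unusedSectionVars false

universe u

open CategoryTheory AlgebraicGeometry TopologicalSpace

namespace Groth.Funfld2.WDiv

theorem hasPolyCharts_polyProj (A : CommRingCat.{u}) [IsDomain A] [IsNoetherianRing A] (σ : Type u)
    [Finite σ] : HasPolyCharts (polyProj A σ) σ :=
  fun x => ⟨A, inferInstance, inferInstance, 𝟙 _, inferInstance, 𝟙 _, inferInstance, ⟨x, rfl⟩,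
    by rw [Category.id_comp, Category.comp_id], fun y _ => ⟨y, rfl⟩⟩

section Chart

variable (A : Type u) [CommRing A] (n : ℕ) (i : Fin (n + 1))

/-- The variables of a standard chart. -/
abbrev ChartVar : Type u := ULift.{u} {l : Fin (n + 1) // l ≠ i}

local notation "Aw" => HomogeneousLocalization.Away (CohB1.polyGrading n A)
  (MvPolynomial.X i : MvPolynomial (Fin (n + 1)) A)

/-- The coordinates of a standard chart. -/
noncomputable def chartHom : MvPolynomial (ChartVar n i) A →+* Aw :=
  (MvPolynomial.eval₂Hom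
      ((HomogeneousLocalization.fromZeroRingHom (CohB1.polyGrading n A) (Submonoid.powers (MvPolynomial.X i))).comp
        (algebraMap A (CohB1.polyGrading n A 0)))
      (fun j : {j : Fin (n + 1) // j ≠ i} =>
        (HomogeneousLocalization.mk ⟨1, ⟨MvPolynomial.X j.1, MvPolynomial.isHomogeneous_X A j.1⟩,
          ⟨MvPolynomial.X i, MvPolynomial.isHomogeneous_X A i⟩, ⟨1, pow_one _⟩⟩ : Aw))).comp
    (MvPolynomial.renameEquiv A Equiv.ulift).toRingEquiv.toRingHom

theorem chartHom_bijective : Function.Bijective (chartHom A n i) := by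
  rw [chartHom, RingHom.coe_comp]
  exact (Misc1.ProjChart.chart_bijective i).comp (MvPolynomial.renameEquiv A Equiv.ulift).bijective

/-- The inverse of the coordinates. -/
noncomputable def chartInv : Aw →+* MvPolynomial (ChartVar n i) A :=
  (RingEquiv.ofBijective _ (chartHom_bijective A n i)).symm.toRingHom

theorem chartInv_chartHom (p : MvPolynomial (ChartVar n i) A) : chartInv A n i (chartHom A n i p) = p :=
  (RingEquiv.ofBijective _ (chartHom_bijective A n i)).symm_apply_apply p

/-- The standard chart. -/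
noncomputable def chartMap : Spec (PolyR (CommRingCat.of A) (ChartVar n i)) ⟶ CohB1.ProjSpace n A :=
  Spec.map (CommRingCat.ofHom (chartInv A n i)) ≫
    Proj.awayι (CohB1.polyGrading n A) (MvPolynomial.X i) (Misc1.ProjChart.X_mem i) one_pos

instance isIso_chartInv : IsIso (CommRingCat.ofHom (chartInv A n i)) :=
  (ConcreteCategory.isIso_iff_bijective _).mpr (RingEquiv.bijective _)

instance isOpenImmersion_chartMap : IsOpenImmersion (chartMap A n i) := by
  haveI : IsOpenImmersion (Proj.awayι (CohB1.polyGrading n A) (MvPolynomial.X i)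
      (Misc1.ProjChart.X_mem i) one_pos) := inferInstance
  exact inferInstanceAs (IsOpenImmersion (Spec.map (CommRingCat.ofHom (chartInv A n i)) ≫
    Proj.awayι (CohB1.polyGrading n A) (MvPolynomial.X i) (Misc1.ProjChart.X_mem i) one_pos))

theorem range_chartMap : Set.range (chartMap A n i) =
    SetLike.coe (Proj.basicOpen (CohB1.polyGrading n A) (MvPolynomial.X i)) := by
  have hs : Function.Surjective (Spec.map (CommRingCat.ofHom (chartInv A n i))) :=
    (Spec.map (CommRingCat.ofHom (chartInv A n i))).homeomorph.surjective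
  show Set.range (Spec.map (CommRingCat.ofHom (chartInv A n i)) ≫ Proj.awayι _ _ _ _) = _
  rw [Scheme.Hom.comp_base, TopCat.coe_comp, Set.range_comp, Set.range_eq_univ.mpr hs, Set.image_univ]
  exact congrArg SetLike.coe (Proj.opensRange_awayι (CohB1.polyGrading n A) _ (Misc1.ProjChart.X_mem i) one_pos)

theorem chartMap_toSpec :
    chartMap A n i ≫ CohB1.ProjSpace.toSpec n A = polyProj (CommRingCat.of A) (ChartVar n i) := by
  refine (Category.assoc _ _ _).trans ?_
  change Spec.map _ ≫ Proj.awayι (CohB1.polyGrading n A) (MvPolynomial.X i) _ _ ≫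
    Proj.toSpecZero (CohB1.polyGrading n A) ≫ _ = _
  rw [Proj.awayι_toSpecZero_assoc, ← Spec.map_comp, ← Spec.map_comp]
  refine congrArg Spec.map (CommRingCat.hom_ext (RingHom.ext fun a => ?_))
  change chartInv A n i ((HomogeneousLocalization.fromZeroRingHom _ _) (algebraMap A _ a)) = MvPolynomial.C a
  rw [← chartInv_chartHom A n i (MvPolynomial.C a)]
  refine congrArg _ ?_
  simp [chartHom]

theorem chartMap_mem_basicOpen (l : {l : Fin (n + 1) // l ≠ i})
    (z : Spec (PolyR (CommRingCat.of A) (ChartVar n i))) :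
    chartMap A n i z ∈ Proj.basicOpen (CohB1.polyGrading n A) (MvPolynomial.X (l : Fin (n + 1))) ↔
      (MvPolynomial.X (ULift.up l) : MvPolynomial (ChartVar n i) A) ∉ z.asIdeal := by
  have h := SetLike.ext_iff.1 (Proj.awayι_preimage_basicOpen (CohB1.polyGrading n A)
    (Misc1.ProjChart.X_mem (R := A) i) one_pos (Misc1.ProjChart.X_mem (R := A) (l : Fin (n + 1))) one_pos)
    (Spec.map (CommRingCat.ofHom (chartInv A n i)) z)
  refine h.trans ?_
  have e : HomogeneousLocalization.Away.isLocalizationElem (Misc1.ProjChart.X_mem (R := A) i)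
      (Misc1.ProjChart.X_mem (R := A) (l : Fin (n + 1))) =
      chartHom A n i (MvPolynomial.X (ULift.up l)) := by
    refine HomogeneousLocalization.val_injective _ ?_
    simp [chartHom, HomogeneousLocalization.Away.isLocalizationElem, HomogeneousLocalization.val_mk]
  show chartInv A n i _ ∉ z.asIdeal ↔ _
  rw [e, chartInv_chartHom]

end Chart

variable (A : Type u) [CommRing A] [IsDomain A] [IsNoetherianRing A] (n : ℕ)
  [IsIntegral (CohB1.ProjSpace n A)] [IsLocallyNoetherian (CohB1.ProjSpace n A)]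
  (H : CohB1.ProjSpace n A)
  (hH : H.asHomogeneousIdeal.toIdeal = Ideal.span {(MvPolynomial.X 0 : MvPolynomial (Fin (n + 1)) A)})

theorem generic_mem : genericPoint (CohB1.ProjSpace n A) ∈ Set.range (chartMap A n 0) :=
  ⟨_, genericPoint_eq_of_isOpenImmersion (chartMap A n 0)⟩

theorem toSpec_generic :
    CohB1.ProjSpace.toSpec n A (genericPoint (CohB1.ProjSpace n A)) = genericPoint (Spec (CommRingCat.of A)) := by
  rw [← genericPoint_eq_of_isOpenImmersion (chartMap A n 0), ← Scheme.Hom.comp_apply, chartMap_toSpec,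
    polyProj_generic]

include hH

theorem notMem_range : H ∉ Set.range (chartMap A n 0) := by
  rw [range_chartMap]
  intro h
  refine h ?_
  show (MvPolynomial.X 0 : MvPolynomial (Fin (n + 1)) A) ∈ H.asHomogeneousIdeal.toIdeal
  rw [hH]
  exact Ideal.mem_span_singleton_self _

theorem specializes_of_notMem {y : CohB1.ProjSpace n A}
    (hy : y ∉ Proj.basicOpen (CohB1.polyGrading n A) (MvPolynomial.X (0 : Fin (n + 1)))) : H ⤳ y := by
  have hle : H.asHomogeneousIdeal.toIdeal ≤ y.asHomogeneousIdeal.toIdeal := by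
    rw [hH, Ideal.span_singleton_le_iff_mem]
    exact not_not.1 hy
  exact specializes_iff_mem_closure.2 ((ProjectiveSpectrum.le_iff_mem_closure (CohB1.polyGrading n A) H y).1 hle)

theorem eq_of_notMem {y : CohB1.ProjSpace n A} (hy : Order.coheight y = 1)
    (hr : y ∉ Set.range (chartMap A n 0)) : y = H := by
  rw [range_chartMap] at hr
  have hs := specializes_of_notMem A n H hH hr
  by_contra hne
  have hlt : y < H := lt_of_le_not_ge (Scheme.le_iff_specializes.mpr hs) fun h' =>
    hne (((Scheme.le_iff_specializes.mp h').antisymm hs).eq)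
  have hfin : Order.coheight H < ⊤ :=
    lt_of_le_of_lt ((Order.coheight_anti hlt.le).trans hy.le) (ENat.natCast_lt_top 1)
  have h0 := Order.coheight_strictAnti hlt hfin
  rw [hy, Order.lt_one_iff, Order.coheight_eq_zero] at h0
  have hg : genericPoint (CohB1.ProjSpace n A) ⤳ H := genericPoint_specializes H
  refine notMem_range A n H hH ?_
  rw [show H = genericPoint (CohB1.ProjSpace n A) from
    ((Scheme.le_iff_specializes.mp (h0 (Scheme.le_iff_specializes.mpr hg))).antisymm hg).eq]
  exact generic_mem A n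

theorem toSpec_H (hn : 1 ≤ n) :
    CohB1.ProjSpace.toSpec n A H = genericPoint (Spec (CommRingCat.of A)) := by
  let i : Fin (n + 1) := ⟨1, by omega⟩
  have hi : (0 : Fin (n + 1)) ≠ i := by simp [i, Fin.ext_iff]
  have hHi : H ∈ Set.range (chartMap A n i) := by
    rw [range_chartMap]
    show (MvPolynomial.X i : MvPolynomial (Fin (n + 1)) A) ∉ H.asHomogeneousIdeal.toIdeal
    rw [hH, Ideal.mem_span_singleton, MvPolynomial.X_dvd_X]
    exact hi
  obtain ⟨z, hz⟩ := hHi
  rw [← hz, ← Scheme.Hom.comp_apply, chartMap_toSpec, polyProj_eq_generic_iff]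
  let t : MvPolynomial (ChartVar n i) A := MvPolynomial.X (ULift.up ⟨0, hi⟩)
  have ht : (Ideal.span {t}).IsPrime :=
    (Ideal.span_singleton_prime (MvPolynomial.X_ne_zero _)).2 MvPolynomial.X_prime
  let w : Spec (PolyR (CommRingCat.of A) (ChartVar n i)) := ⟨Ideal.span {t}, ht⟩
  have hw : chartMap A n i w ∉ Proj.basicOpen (CohB1.polyGrading n A) (MvPolynomial.X (0 : Fin (n + 1))) :=
    fun hm => (chartMap_mem_basicOpen A n i ⟨0, hi⟩ w).1 hm (Ideal.mem_span_singleton_self _)
  have hs : z ⤳ w := by
    rw [← (chartMap A n i).isOpenEmbedding.isInducing.specializes_iff, hz]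
    exact specializes_of_notMem A n H hH hw
  have hle : z.asIdeal ≤ Ideal.span {t} := (PrimeSpectrum.le_iff_specializes z w).2 hs
  refine (Submodule.eq_bot_iff _).2 fun a ha => ?_
  have := hle ha
  rw [Ideal.mem_span_singleton] at this
  obtain ⟨p, hp⟩ := this
  have h0 := congrArg (MvPolynomial.constantCoeff) hp
  simpa [t] using h0

/-- The pullback of a divisor plus a multiple of the hyperplane is principal only trivially. -/
theorem proj_principal (hn : 1 ≤ n)
    (hR1 : ∀ x : Spec (CommRingCat.of A), Order.coheight x = 1 →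
      IsDiscreteValuationRing ((Spec (CommRingCat.of A)).presheaf.stalk x))
    (d : ℤ) (D : Spec (CommRingCat.of A) → ℤ) (hD : ∀ x, Order.coheight x ≠ 1 → D x = 0)
    (g : (CohB1.ProjSpace n A).functionField) (hg : g ≠ 0)
    (hH' : Scheme.ord g H = d + D (CohB1.ProjSpace.toSpec n A H))
    (h : ∀ y, y ≠ H → Order.coheight y = 1 → Scheme.ord g y = D (CohB1.ProjSpace.toSpec n A y)) :
    d = 0 ∧ ∃ f : (Spec (CommRingCat.of A)).functionField, f ≠ 0 ∧
      ∀ x, Order.coheight x = 1 → Scheme.ord f x = D x := by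
  set σ := ChartVar n (0 : Fin (n + 1))
  set j := chartMap A n (0 : Fin (n + 1))
  have hq : CohB1.ProjSpace.toSpec n A (genericPoint (CohB1.ProjSpace n A)) ⤳ genericPoint (Spec (CommRingCat.of A)) :=
    specializes_of_eq (toSpec_generic A n)
  obtain ⟨f, hf, hfg, hord⟩ := principal_of_pullback (hasPolyCharts_polyProj (CommRingCat.of A) σ)
    (polyProj_specializes (CommRingCat.of A) σ) hR1 D hD (ffMap j g) ((map_ne_zero _).2 hg) fun z hz => by
      rw [ord_ffMap j hz, h (j z) (fun e => notMem_range A n H hH ⟨z, e⟩) ((coheight_apply j z).trans hz),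
        ← Scheme.Hom.comp_apply, chartMap_toSpec]
  refine ⟨?_, f, hf, hord⟩
  have hw : j ≫ CohB1.ProjSpace.toSpec n A = polyProj (CommRingCat.of A) σ ≫ 𝟙 _ := by
    rw [Category.comp_id]; exact chartMap_toSpec A n 0
  have hgf : ffPull (CohB1.ProjSpace.toSpec n A) hq f = g := (ffMap j).injective (by
    rw [isPullback_square _ (polyProj (CommRingCat.of A) σ) (𝟙 _) j hw hq
      (polyProj_specializes (CommRingCat.of A) σ), ffMap_eq_ffPull (𝟙 _) (specializes_refl _)]
    convert hfg using 2
    simp [ffPull])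
  have hqH := toSpec_H A n H hH hn
  have h0 : Scheme.ord g H = 0 := by
    by_cases hc : Order.coheight H = 1
    swap
    · rw [Scheme.ord_eq_zero_of_coheight_neq_one hc]
    have hspec : genericPoint (CohB1.ProjSpace n A) ⤳ H := genericPoint_specializes H
    rw [← hgf, ffPull, CommRingCat.hom_comp, RingHom.comp_apply]
    have h1 : CohB1.ProjSpace.toSpec n A (genericPoint (CohB1.ProjSpace n A)) ⤳
        CohB1.ProjSpace.toSpec n A H := specializes_of_eq (by rw [toSpec_generic, hqH])
    have h2 : CohB1.ProjSpace.toSpec n A H ⤳ genericPoint (Spec (CommRingCat.of A)) := specializes_of_eq hqH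
    set u := (Spec (CommRingCat.of A)).presheaf.stalkSpecializes h2 f
    have hu : IsUnit u := (isUnit_iff_ne_zero.2 hf).map _
    have key : ((CohB1.ProjSpace.toSpec n A).stalkMap (genericPoint (CohB1.ProjSpace n A))).hom
        (((Spec (CommRingCat.of A)).presheaf.stalkSpecializes hq).hom f) =
        algebraMap ((CohB1.ProjSpace n A).presheaf.stalk H) (CohB1.ProjSpace n A).functionField
          ((CohB1.ProjSpace.toSpec n A).stalkMap H u) := by
      rw [RingHom.algebraMap_toAlgebra, ← Scheme.Hom.stalkSpecializes_stalkMap_apply]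
      refine congrArg _ ?_
      rw [← ConcreteCategory.comp_apply, TopCat.Presheaf.stalkSpecializes_comp]
    rw [key]
    have hu' : IsUnit ((CohB1.ProjSpace.toSpec n A).stalkMap H u) := hu.map _
    have hne : algebraMap ((CohB1.ProjSpace n A).presheaf.stalk H) (CohB1.ProjSpace n A).functionField
        ((CohB1.ProjSpace.toSpec n A).stalkMap H u) ≠ 0 := (hu'.map _).ne_zero
    have : Ring.KrullDimLE 1 ((CohB1.ProjSpace n A).presheaf.stalk H) := krullDimLE_of_coheight_le hc.le
    rw [Scheme.ord_eq_iff hc hne]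
    exact Ring.ordFrac_of_isUnit hu'
  rw [hqH, hD _ coheight_genericPoint_ne_one, add_zero, h0] at hH'
  exact hH'.symm

theorem proj_linEquiv (hn : 1 ≤ n)
    (hR1 : ∀ x : Spec (CommRingCat.of A), Order.coheight x = 1 →
      IsDiscreteValuationRing ((Spec (CommRingCat.of A)).presheaf.stalk x))
    (D' : CohB1.ProjSpace n A → ℤ) (hD' : ∀ y, Order.coheight y ≠ 1 → D' y = 0)
    (hfin : {y | D' y ≠ 0}.Finite) :
    ∃! d : ℤ, ∃ (D : Spec (CommRingCat.of A) → ℤ) (g : (CohB1.ProjSpace n A).functionField),
      (∀ x, Order.coheight x ≠ 1 → D x = 0) ∧ {x | D x ≠ 0}.Finite ∧ g ≠ 0 ∧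
      D' H = d + D (CohB1.ProjSpace.toSpec n A H) + Scheme.ord g H ∧
      ∀ y, y ≠ H → Order.coheight y = 1 →
        D' y = D (CohB1.ProjSpace.toSpec n A y) + Scheme.ord g y := by
  set σ := ChartVar n (0 : Fin (n + 1))
  set j := chartMap A n (0 : Fin (n + 1))
  obtain ⟨D, g₀, hD, hDfin, hg₀, hDg⟩ := linEquiv_pullback (hasPolyCharts_polyProj (CommRingCat.of A) σ)
    (fun z => D' (j z)) (fun z hz => hD' _ (by rwa [coheight_apply j z]))
    (hfin.preimage j.isOpenEmbedding.injective.injOn)
  obtain ⟨g, rfl⟩ := ffMap_surjective j g₀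
  have hoff : ∀ y, y ≠ H → Order.coheight y = 1 →
      D' y = D (CohB1.ProjSpace.toSpec n A y) + Scheme.ord g y := fun y hne hy => by
    obtain ⟨z, rfl⟩ : y ∈ Set.range j := by
      by_contra hr
      exact hne (eq_of_notMem A n H hH hy hr)
    have hz := (coheight_apply j z).symm.trans hy
    rw [← Scheme.Hom.comp_apply, chartMap_toSpec]
    have := hDg z hz
    rw [ord_ffMap j hz] at this
    exact this
  refine ⟨D' H - D (CohB1.ProjSpace.toSpec n A H) - Scheme.ord g H,
    ⟨D, g, hD, hDfin, fun e => hg₀ (by rw [e, map_zero]), by ring, hoff⟩, ?_⟩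
  rintro d ⟨D₂, g₂, hD₂, -, hg₂, hH₂, hoff₂⟩
  have hg : g ≠ 0 := fun e => hg₀ (by rw [e, map_zero])
  have hdiv : ∀ y, Order.coheight y = 1 → Scheme.ord (g * g₂⁻¹) y = Scheme.ord g y - Scheme.ord g₂ y := fun y hy => by
    have h1 : Scheme.ord (g * g₂⁻¹ * g₂) y = Scheme.ord (g * g₂⁻¹) y + Scheme.ord g₂ y :=
      Scheme.ord_mul (mul_ne_zero hg (inv_ne_zero hg₂)) hg₂
    rw [inv_mul_cancel_right₀ hg₂] at h1
    omega
  have hH1 : Scheme.ord (g * g₂⁻¹) H = Scheme.ord g H - Scheme.ord g₂ H := by
    by_cases hc : Order.coheight H = 1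
    · exact hdiv H hc
    · rw [Scheme.ord_eq_zero_of_coheight_neq_one hc, Scheme.ord_eq_zero_of_coheight_neq_one hc,
        Scheme.ord_eq_zero_of_coheight_neq_one hc, sub_zero]
  obtain ⟨h0, -⟩ := proj_principal A n H hH hn hR1
    (d - (D' H - D (CohB1.ProjSpace.toSpec n A H) - Scheme.ord g H)) (fun x => D₂ x - D x)
    (fun x hx => by rw [hD x hx, hD₂ x hx, sub_zero]) (g * g₂⁻¹) (mul_ne_zero hg (inv_ne_zero hg₂))
    (by rw [hH1]; omega)
    (fun y hne hy => by
      rw [hdiv y hy]
      have := hoff y hne hy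
      have := hoff₂ y hne hy
      omega)
  omega

end Groth.Funfld2.WDiv
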