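import Groth.Agent.Funfld2.WDiv.Open
import Mathlib.RingTheory.Ideal.KrullsHeightTheorem
import Mathlib.RingTheory.DiscreteValuationRing.TFAE
import Mathlib.RingTheory.KrullDimension.PID

/-! Pullback of rational functions and orders on spectra. -/

set_option linter.style.haveILetI false

universe u

open CategoryTheory AlgebraicGeometry TopologicalSpace

namespace Groth.Funfld2.WDiv

section Pull

variable {X Y Z : Scheme.{u}} [IrreducibleSpace X] [IrreducibleSpace Y] [IrreducibleSpace Z]

/-- The pullback of rational functions along a dominant morphism. -/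
noncomputable def ffPull (q : Y ⟶ X) (hq : q (genericPoint Y) ⤳ genericPoint X) :
    X.functionField →+* Y.functionField :=
  (X.presheaf.stalkSpecializes hq ≫ q.stalkMap (genericPoint Y)).hom

theorem ffPull_germ (q : Y ⟶ X) (hq : q (genericPoint Y) ⤳ genericPoint X) (U : X.Opens)
    (h₁ : genericPoint X ∈ U) (h₂ : q (genericPoint Y) ∈ U) (s : Γ(X, U)) :
    ffPull q hq (X.presheaf.germ U (genericPoint X) h₁ s) =
      Y.presheaf.germ (q ⁻¹ᵁ U) (genericPoint Y) h₂ (q.app U s) := by
  rw [ffPull, CommRingCat.hom_comp, RingHom.comp_apply]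
  erw [TopCat.Presheaf.germ_stalkSpecializes_apply]
  exact Scheme.Hom.germ_stalkMap_apply q U (genericPoint Y) _ s

theorem ffPull_congr {q r : Y ⟶ X} (e : q = r) (hq : q (genericPoint Y) ⤳ genericPoint X)
    (hr : r (genericPoint Y) ⤳ genericPoint X) (f : X.functionField) :
    ffPull q hq f = ffPull r hr f := by
  subst e; rfl

theorem ffPull_comp (q : Y ⟶ X) (r : Z ⟶ Y) (hq : q (genericPoint Y) ⤳ genericPoint X)
    (hr : r (genericPoint Z) ⤳ genericPoint Y) (hrq : (r ≫ q) (genericPoint Z) ⤳ genericPoint X)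
    (f : X.functionField) : ffPull (r ≫ q) hrq f = ffPull r hr (ffPull q hq f) := by
  obtain ⟨U, hU, s, rfl⟩ := TopCat.Presheaf.exists_germ_eq X.presheaf f
  have h₁ : q (genericPoint Y) ∈ U := hq.mem_open U.2 hU
  have h₂ : q (r (genericPoint Z)) ∈ U := hrq.mem_open U.2 hU
  rw [ffPull_germ (r ≫ q) hrq U hU h₂, ffPull_germ q hq U hU h₁, ffPull_germ r hr (q ⁻¹ᵁ U) h₁ h₂]
  rfl

end Pull

theorem specializes_genericPoint_of_isOpenImmersion {X Y : Scheme.{u}} [IrreducibleSpace X]
    [IrreducibleSpace Y] (f : X ⟶ Y) [IsOpenImmersion f] : f (genericPoint X) ⤳ genericPoint Y :=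
  specializes_of_eq (genericPoint_eq_of_isOpenImmersion f)

theorem ffMap_eq_ffPull {X Y : Scheme.{u}} [IsIntegral X] [IsIntegral Y] (f : X ⟶ Y) [IsOpenImmersion f]
    (hf : f (genericPoint X) ⤳ genericPoint Y) : ffMap f = ffPull f hf := rfl

theorem isPullback_square {X Y X' Y' : Scheme.{u}} [IsIntegral X] [IsIntegral Y] [IsIntegral X']
    [IsIntegral Y'] (q : Y ⟶ X) (q' : Y' ⟶ X') (ι : X' ⟶ X) (j : Y' ⟶ Y) [IsOpenImmersion ι]
    [IsOpenImmersion j] (w : j ≫ q = q' ≫ ι) (hq : q (genericPoint Y) ⤳ genericPoint X)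
    (hq' : q' (genericPoint Y') ⤳ genericPoint X') (f : X.functionField) :
    ffMap j (ffPull q hq f) = ffPull q' hq' (ffMap ι f) := by
  have hj := specializes_genericPoint_of_isOpenImmersion j
  have hι := specializes_genericPoint_of_isOpenImmersion ι
  have h1 : (j ≫ q) (genericPoint Y') ⤳ genericPoint X :=
    (hj.map q.continuous).trans hq
  rw [ffMap_eq_ffPull j hj, ffMap_eq_ffPull ι hι, ← ffPull_comp q j hq hj h1,
    ← ffPull_comp ι q' hι hq' (w ▸ h1)]
  exact ffPull_congr w _ _ _

section Affine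

variable {R : CommRingCat.{u}} [IsDomain R]

theorem algebraMap_functionField (a : R) :
    algebraMap R (Spec R).functionField a = StructureSheaf.toStalk R (genericPoint (Spec R)) a := rfl

theorem algebraMap_functionField_stalk (y : Spec R) (a : R) :
    algebraMap R (Spec R).functionField a =
      algebraMap ((Spec R).presheaf.stalk y) (Spec R).functionField
        (StructureSheaf.toStalk R y a) := by
  have h := StructureSheaf.toStalk_stalkSpecializes (R := R)
    ((genericPoint_spec ↥(Spec R)).specializes (Set.mem_univ y))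
  exact (congrArg (fun φ => (CommRingCat.Hom.hom φ) a) h).symm

theorem ffPull_algebraMap {S : CommRingCat.{u}} [IsDomain S] (φ : R ⟶ S)
    (hq : Spec.map φ (genericPoint (Spec S)) ⤳ genericPoint (Spec R)) (a : R) :
    ffPull (Spec.map φ) hq (algebraMap R (Spec R).functionField a) =
      algebraMap S (Spec S).functionField (φ a) := by
  have e1 : algebraMap R (Spec R).functionField a = (Spec R).presheaf.germ ⊤ (genericPoint (Spec R))
      trivial ((Scheme.ΓSpecIso R).inv a) := rfl
  rw [e1, ffPull_germ (Spec.map φ) hq ⊤ trivial trivial]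
  change (Spec S).presheaf.germ ⊤ (genericPoint (Spec S)) trivial ((Spec.map φ).appTop ((Scheme.ΓSpecIso R).inv a)) =
    (Spec S).presheaf.germ ⊤ (genericPoint (Spec S)) trivial ((Scheme.ΓSpecIso S).inv (φ a))
  refine congrArg _ ?_
  rw [← ConcreteCategory.comp_apply, ← ConcreteCategory.comp_apply φ, Scheme.ΓSpecIso_inv_naturality]

theorem height_eq_coheight (y : Spec R) : y.asIdeal.height = Order.coheight y := by
  have := y.2
  letI : Algebra R ((Spec R).presheaf.stalk y) := StructureSheaf.stalkAlgebra (R := R) y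
  haveI : IsLocalization.AtPrime ((Spec R).presheaf.stalk y) y.asIdeal :=
    StructureSheaf.IsLocalization.to_stalk R y
  have h := ringKrullDim_stalk_eq_coheight (X := Spec R) y
  rw [IsLocalization.AtPrime.ringKrullDim_eq_height y.asIdeal] at h
  exact WithBot.coe_injective h

theorem eq_of_le_of_height_le_one {P Q : Ideal R} [P.IsPrime] [hQ : Q.IsPrime] (hP : P.height ≤ 1)
    (hne : Q ≠ ⊥) (hle : Q ≤ P) : Q = P := by
  have : P.FiniteHeight := Ideal.finiteHeight_iff_lt.2 (Or.inr (lt_of_le_of_lt hP (ENat.natCast_lt_top 1)))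
  refine hle.eq_or_lt.resolve_right fun hlt => ?_
  have : Q.FiniteHeight := Ideal.finiteHeight_iff_lt.2 (Or.inr
    (lt_of_le_of_lt ((Ideal.height_mono hle).trans hP) (ENat.natCast_lt_top 1)))
  have : (⊥ : Ideal R).FiniteHeight :=
    Ideal.finiteHeight_iff_lt.2 (Or.inr (by rw [Ideal.height_bot]; exact ENat.natCast_lt_top 0))
  have h2 := Ideal.height_strict_mono_of_isPrime_of_isPrime hlt
  have h3 := Ideal.height_strict_mono_of_isPrime (I := (⊥ : Ideal R)) (bot_lt_iff_ne_bot.2 hne)
  rw [Ideal.height_bot] at h3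
  have h4 := h2.trans_le hP
  rw [Order.lt_one_iff] at h4
  exact h3.ne' h4

theorem mem_minimalPrimes_span {P : Ideal R} [hP : P.IsPrime] (h1 : P.height ≤ 1) {a : R} (ha : a ≠ 0)
    (haP : a ∈ P) : P ∈ (Ideal.span {a}).minimalPrimes := by
  refine ⟨⟨hP, (Ideal.span_singleton_le_iff_mem _).2 haP⟩, fun Q hQ hQP => ?_⟩
  haveI := hQ.1
  have hne : Q ≠ ⊥ := fun e => ha (by
    have := hQ.2 (Ideal.mem_span_singleton_self a)
    rwa [e, Ideal.mem_bot] at this)
  exact (eq_of_le_of_height_le_one h1 hne hQP).ge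

variable [IsNoetherianRing R]

theorem ord_of_notMem {y : Spec R} (hy : Order.coheight y = 1) {a : R} (ha : a ∉ y.asIdeal) :
    Scheme.ordHom y hy (algebraMap R (Spec R).functionField a) = 1 := by
  have := y.2
  letI : Algebra R ((Spec R).presheaf.stalk y) := StructureSheaf.stalkAlgebra (R := R) y
  haveI : IsLocalization.AtPrime ((Spec R).presheaf.stalk y) y.asIdeal :=
    StructureSheaf.IsLocalization.to_stalk R y
  have : Ring.KrullDimLE 1 ((Spec R).presheaf.stalk y) := krullDimLE_of_coheight_le hy.le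
  rw [algebraMap_functionField_stalk y]
  exact Ring.ordFrac_of_isUnit (IsLocalization.map_units (M := y.asIdeal.primeCompl)
    ((Spec R).presheaf.stalk y) ⟨a, ha⟩)

/-- A local generator of a prime gives a point of codimension one and computes orders. -/
theorem ord_of_localGen {y : Spec R} {π : R} (hπ0 : π ≠ 0) (hπ : π ∈ y.asIdeal)
    (hgen : ∀ x ∈ y.asIdeal, ∃ c, c ∉ y.asIdeal ∧ π ∣ c * x) :
    Order.coheight y = 1 ∧ ∀ (a b : R) (k : ℤ), a ∉ y.asIdeal → b ∉ y.asIdeal →
      Scheme.ord (algebraMap R (Spec R).functionField π ^ k * algebraMap R (Spec R).functionField a /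
        algebraMap R (Spec R).functionField b) y = k := by
  have := y.2
  letI : Algebra R ((Spec R).presheaf.stalk y) := StructureSheaf.stalkAlgebra (R := R) y
  haveI : IsLocalization.AtPrime ((Spec R).presheaf.stalk y) y.asIdeal :=
    StructureSheaf.IsLocalization.to_stalk R y
  haveI : IsNoetherianRing ((Spec R).presheaf.stalk y) := IsLocalization.isNoetherianRing y.asIdeal.primeCompl ((Spec R).presheaf.stalk y) inferInstance
  have hmax : IsLocalRing.maximalIdeal ((Spec R).presheaf.stalk y) = Ideal.span {algebraMap R ((Spec R).presheaf.stalk y) π} := by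
    refine le_antisymm ?_ ((Ideal.span_singleton_le_iff_mem _).2 ?_)
    · rw [← IsLocalization.AtPrime.map_eq_maximalIdeal y.asIdeal ((Spec R).presheaf.stalk y), Ideal.map_le_iff_le_comap]
      intro x hx
      obtain ⟨c, hc, d, hd⟩ := hgen x hx
      have hu : IsUnit (algebraMap R ((Spec R).presheaf.stalk y) c) := IsLocalization.map_units (M := y.asIdeal.primeCompl) ((Spec R).presheaf.stalk y) ⟨c, hc⟩
      rw [Ideal.mem_comap, Ideal.mem_span_singleton]
      refine (hu.dvd_mul_left).1 ⟨algebraMap R ((Spec R).presheaf.stalk y) d, ?_⟩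
      rw [← map_mul, ← map_mul, hd]
    · rw [← IsLocalization.AtPrime.map_eq_maximalIdeal y.asIdeal ((Spec R).presheaf.stalk y)]
      exact Ideal.mem_map_of_mem _ hπ
  have hinj : Function.Injective (algebraMap R ((Spec R).presheaf.stalk y)) :=
    IsLocalization.injective ((Spec R).presheaf.stalk y) (M := y.asIdeal.primeCompl) y.asIdeal.primeCompl_le_nonZeroDivisors
  have hnf : ¬ IsField ((Spec R).presheaf.stalk y) := fun hf => by
    rw [IsLocalRing.isField_iff_maximalIdeal_eq, hmax, Ideal.span_singleton_eq_bot,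
      map_eq_zero_iff _ hinj] at hf
    exact hπ0 hf
  haveI : IsDiscreteValuationRing ((Spec R).presheaf.stalk y) :=
    ((IsDiscreteValuationRing.TFAE ((Spec R).presheaf.stalk y) hnf).out 0 4).2
      (show (IsLocalRing.maximalIdeal ((Spec R).presheaf.stalk y)).IsPrincipal from ⟨_, hmax⟩)
  have hy : Order.coheight y = 1 := by
    have h := ringKrullDim_stalk_eq_coheight (X := Spec R) y
    rw [IsPrincipalIdealRing.ringKrullDim_eq_one ((Spec R).presheaf.stalk y) hnf] at h
    exact (WithBot.coe_eq_one.1 h.symm)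
  refine ⟨hy, fun a b k ha hb => ?_⟩
  have : Ring.KrullDimLE 1 ((Spec R).presheaf.stalk y) := krullDimLE_of_coheight_le hy.le
  have hπK : algebraMap R (Spec R).functionField π ≠ 0 := by
    rwa [map_ne_zero_iff _ (IsFractionRing.injective _ _)]
  have hne : ∀ c ∉ y.asIdeal, algebraMap R (Spec R).functionField c ≠ 0 := fun c hc => by
    rw [map_ne_zero_iff _ (IsFractionRing.injective _ _)]
    exact fun e => hc (e ▸ zero_mem _)
  have hval : Scheme.ordHom y hy (algebraMap R (Spec R).functionField π) = WithZero.exp 1 := by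
    rw [algebraMap_functionField_stalk y]
    exact Ring.ordFrac_irreducible ((IsDiscreteValuationRing.irreducible_iff_uniformizer _).2 hmax)
  rw [Scheme.ord_eq_iff hy (div_ne_zero (mul_ne_zero (zpow_ne_zero _ hπK) (hne a ha)) (hne b hb)),
    map_div₀, map_mul, map_zpow₀, hval, ord_of_notMem hy ha, ord_of_notMem hy hb,
    ← WithZero.exp_zsmul, smul_eq_mul, mul_one, mul_one, div_one]
  rfl

/-- A rational function has only finitely many zeros and poles on an affine scheme. -/
theorem finite_ord_ne_zero_affine (g : (Spec R).functionField) :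
    {y : Spec R | Order.coheight y = 1 ∧ Scheme.ord g y ≠ 0}.Finite := by
  classical
  rcases eq_or_ne g 0 with rfl | hg
  · simp [Scheme.ord_zero]
  obtain ⟨a, b, hb, rfl⟩ := IsFractionRing.div_surjective (A := R) g
  have hb0 : b ≠ 0 := nonZeroDivisors.ne_zero hb
  have ha0 : a ≠ 0 := fun h => hg (by rw [h, map_zero, zero_div])
  have hfin := (Ideal.finite_minimalPrimes_of_isNoetherianRing R (Ideal.span {a})).union
    (Ideal.finite_minimalPrimes_of_isNoetherianRing R (Ideal.span {b}))
  refine (hfin.preimage (Set.injOn_of_injective (f := fun y : Spec R => y.asIdeal)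
    fun y z h => PrimeSpectrum.ext h)).subset fun y ⟨hy, hne⟩ => ?_
  have h1 : y.asIdeal.height ≤ 1 := ((height_eq_coheight y).trans hy).le
  have hor : a ∈ y.asIdeal ∨ b ∈ y.asIdeal := by
    by_contra! h
    refine hne ?_
    rw [Scheme.ord_eq_iff hy hg, map_div₀, ord_of_notMem hy h.1, ord_of_notMem hy h.2, div_one]
    rfl
  have := y.2
  rcases hor with h | h
  · exact Or.inl (mem_minimalPrimes_span h1 ha0 h)
  · exact Or.inr (mem_minimalPrimes_span h1 hb0 h)

end Affine

/-- A rational function on a Noetherian scheme has only finitely many zeros and poles. -/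
theorem finite_ord_ne_zero {X : Scheme.{u}} [IsIntegral X] [IsNoetherian X] (g : X.functionField) :
    {x : X | Order.coheight x = 1 ∧ Scheme.ord g x ≠ 0}.Finite := by
  classical
  let 𝒰 := X.affineCover.finiteSubcover
  refine (Set.finite_iUnion fun i : 𝒰.I₀ => (Set.Finite.image (𝒰.f i)
    (s := {y | Order.coheight (𝒰.f i y) = 1 ∧ Scheme.ord g (𝒰.f i y) ≠ 0}) ?_)).subset fun x hx => ?_
  · rcases isEmpty_or_nonempty (𝒰.X i) with h | h
    · exact Set.toFinite _
    haveI : IsIntegral (𝒰.X i) := isIntegral_of_isOpenImmersion (𝒰.f i)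
    haveI : IsLocallyNoetherian (𝒰.X i) := isLocallyNoetherian_of_isOpenImmersion (𝒰.f i)
    obtain ⟨R, ⟨e⟩⟩ : ∃ R : CommRingCat.{u}, Nonempty (Spec R ≅ 𝒰.X i) :=
      ⟨_, ⟨(Scheme.isoSpec (𝒰.X i)).symm⟩⟩
    haveI : Nonempty (Spec R) := ⟨e.inv (Classical.arbitrary _)⟩
    haveI : IsIntegral (Spec R) := isIntegral_of_isOpenImmersion e.hom
    haveI : IsLocallyNoetherian (Spec R) := isLocallyNoetherian_of_isOpenImmersion e.hom
    haveI : IsNoetherianRing R := isLocallyNoetherian_Spec.1 inferInstance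
    haveI : IsDomain R := (affine_isIntegral_iff R).1 inferInstance
    have he : ∀ z, e.hom (e.inv z) = z := fun z => by rw [← Scheme.Hom.comp_apply, e.inv_hom_id]; rfl
    refine ((finite_ord_ne_zero_affine (ffMap (e.hom ≫ 𝒰.f i) g)).image e.hom).subset
      fun y ⟨hy, hne⟩ => ⟨e.inv y, ?_, he y⟩
    have hc : Order.coheight (e.inv y) = 1 := by
      rw [← coheight_apply (e.hom ≫ 𝒰.f i), Scheme.Hom.comp_apply, he]; exact hy
    refine ⟨hc, ?_⟩
    rw [ord_ffMap _ hc, Scheme.Hom.comp_apply, he]
    exact hne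
  · obtain ⟨i, y, rfl⟩ := 𝒰.exists_eq x
    exact Set.mem_iUnion.2 ⟨i, y, hx, rfl⟩

end Groth.Funfld2.WDiv
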