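import Groth.Agent.Funfld2.WDiv.Pull
import Mathlib.RingTheory.MvPolynomial.Localization
import Mathlib.Algebra.MvPolynomial.Nilpotent
import Mathlib.RingTheory.Polynomial.UniqueFactorization

/-! Divisors on the spectrum of a polynomial ring and on the spectrum of its coefficients. -/

set_option linter.style.haveILetI false
set_option linter.unusedSectionVars false

universe u

open CategoryTheory AlgebraicGeometry TopologicalSpace
open MvPolynomial (C)

namespace Groth.Funfld2.WDiv

variable (A : CommRingCat.{u}) [IsDomain A] [IsNoetherianRing A] (σ : Type u) [Finite σ]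

/-- The coordinate ring of affine space over an affine scheme. -/
noncomputable abbrev PolyR : CommRingCat.{u} := CommRingCat.of (MvPolynomial σ A)

instance isDomain_polyR : IsDomain (PolyR A σ) := inferInstanceAs (IsDomain (MvPolynomial σ A))

instance isNoetherianRing_polyR : IsNoetherianRing (PolyR A σ) :=
  inferInstanceAs (IsNoetherianRing (MvPolynomial σ A))

noncomputable instance algebraPolyR : Algebra (MvPolynomial σ A) (Spec (PolyR A σ)).functionField :=
  instAlgebraCarrierFunctionFieldSpec (PolyR A σ)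

instance isFractionRingPolyR : IsFractionRing (MvPolynomial σ A) (Spec (PolyR A σ)).functionField :=
  functionField_isFractionRing_of_affine (PolyR A σ)

theorem totalDegree_map_inj {S T : Type u} [CommRing S] [CommRing T] {f : S →+* T}
    (hf : Function.Injective f) (r : MvPolynomial σ S) :
    (MvPolynomial.map f r).totalDegree = r.totalDegree := by
  unfold MvPolynomial.totalDegree
  rw [MvPolynomial.support_map_of_injective _ hf]

/-- The structure map of affine space over an affine scheme. -/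
noncomputable abbrev polyProj : Spec (PolyR A σ) ⟶ Spec A :=
  Spec.map (CommRingCat.ofHom C)

theorem asIdeal_polyProj (y : Spec (PolyR A σ)) :
    (polyProj A σ y).asIdeal = y.asIdeal.comap C := rfl

theorem polyProj_eq_generic_iff (y : Spec (PolyR A σ)) :
    polyProj A σ y = genericPoint (Spec A) ↔ y.asIdeal.comap (C : A →+* MvPolynomial σ A) = ⊥ := by
  rw [genericPoint_eq_bot_of_affine]
  exact ⟨fun h => congrArg PrimeSpectrum.asIdeal h, fun h => PrimeSpectrum.ext h⟩

theorem polyProj_generic :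
    polyProj A σ (genericPoint (Spec (PolyR A σ))) = genericPoint (Spec A) := by
  rw [polyProj_eq_generic_iff, genericPoint_eq_bot_of_affine]
  exact Ideal.comap_bot_of_injective _ (MvPolynomial.C_injective σ A)

theorem polyProj_specializes :
    polyProj A σ (genericPoint (Spec (PolyR A σ))) ⤳ genericPoint (Spec A) :=
  specializes_of_eq (polyProj_generic A σ)

theorem isPrime_map_C (p : Ideal A) [p.IsPrime] : (p.map (C : A →+* MvPolynomial σ A)).IsPrime := by
  have h : RingHom.ker (MvPolynomial.map (σ := σ) (Ideal.Quotient.mk p)) = p.map C := by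
    rw [MvPolynomial.ker_map, Ideal.mk_ker]
  exact h ▸ RingHom.ker_isPrime _

theorem comap_map_C (p : Ideal A) : (p.map (C : A →+* MvPolynomial σ A)).comap C = p := by
  refine le_antisymm (fun a ha => ?_) Ideal.le_comap_map
  have := MvPolynomial.mem_map_C_iff.1 (Ideal.mem_comap.1 ha) 0
  simpa using this

omit [IsNoetherianRing A] in
/-- A local parameter of a point of codimension one. -/
theorem exists_param {x : Spec A} (hR1 : IsDiscreteValuationRing ((Spec A).presheaf.stalk x)) :
    ∃ π : A, π ≠ 0 ∧ π ∈ x.asIdeal ∧ (∀ a ∈ x.asIdeal, ∃ c, c ∉ x.asIdeal ∧ π ∣ c * a) ∧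
      ∀ a : A, a ≠ 0 → ∃ (k : ℕ) (c a' : A), c ∉ x.asIdeal ∧ a' ∉ x.asIdeal ∧ c * a = π ^ k * a' := by
  have := x.2
  letI : Algebra A ((Spec A).presheaf.stalk x) := StructureSheaf.stalkAlgebra (R := A) x
  haveI : IsLocalization.AtPrime ((Spec A).presheaf.stalk x) x.asIdeal :=
    StructureSheaf.IsLocalization.to_stalk A x
  have hinj : Function.Injective (algebraMap A ((Spec A).presheaf.stalk x)) :=
    IsLocalization.injective _ (M := x.asIdeal.primeCompl) x.asIdeal.primeCompl_le_nonZeroDivisors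
  obtain ⟨ϖ, hϖ⟩ := IsDiscreteValuationRing.exists_irreducible ((Spec A).presheaf.stalk x)
  obtain ⟨⟨π, s⟩, hs⟩ := IsLocalization.mk'_surjective x.asIdeal.primeCompl ϖ
  simp only at hs
  have hu : IsUnit (algebraMap A ((Spec A).presheaf.stalk x) s) := IsLocalization.map_units _ s
  have hspec : ϖ * algebraMap A _ (s : A) = algebraMap A _ π := by rw [← hs, IsLocalization.mk'_spec]
  have hirr : Irreducible (algebraMap A ((Spec A).presheaf.stalk x) π) := by
    rw [← hspec]; exact (irreducible_mul_isUnit hu).2 hϖ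
  have hmax := (IsDiscreteValuationRing.irreducible_iff_uniformizer _).1 hirr
  have hmem : ∀ a : A, algebraMap A ((Spec A).presheaf.stalk x) a ∈
      IsLocalRing.maximalIdeal ((Spec A).presheaf.stalk x) ↔ a ∈ x.asIdeal :=
    fun a => IsLocalization.AtPrime.to_map_mem_maximal_iff _ x.asIdeal a
  refine ⟨π, fun h => hirr.ne_zero (by rw [h, map_zero]), (hmem π).1 hirr.not_isUnit, fun a ha => ?_,
    fun a ha => ?_⟩
  · have h := (hmem a).2 ha
    rw [hmax, Ideal.mem_span_singleton] at h
    obtain ⟨w, hw⟩ := h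
    obtain ⟨⟨r, t⟩, rfl⟩ := IsLocalization.mk'_surjective x.asIdeal.primeCompl w
    refine ⟨t, t.2, r, hinj ?_⟩
    simp only at hw
    rw [map_mul, map_mul, hw, mul_left_comm, IsLocalization.mk'_spec']
  · obtain ⟨k, w, hw⟩ := IsDiscreteValuationRing.eq_unit_mul_pow_irreducible
      (fun h => ha (hinj (h.trans (map_zero _).symm))) hirr
    obtain ⟨⟨r, t⟩, hr⟩ := IsLocalization.mk'_surjective x.asIdeal.primeCompl (w : (Spec A).presheaf.stalk x)
    simp only at hr
    refine ⟨k, t, r, t.2, fun hr' => ?_, hinj ?_⟩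
    · have hru : IsUnit (algebraMap A ((Spec A).presheaf.stalk x) r) := by
        rw [← IsLocalization.mk'_spec (M := x.asIdeal.primeCompl) _ r t, hr]
        exact w.isUnit.mul (IsLocalization.map_units _ t)
      exact ((hmem r).2 hr') hru
    · rw [map_mul, map_mul, map_pow, hw, ← IsLocalization.mk'_spec (M := x.asIdeal.primeCompl) _ r t, hr]
      ring

/-- Over a point of codimension one lies a point of codimension one with the same orders. -/
theorem exists_above {x : Spec A} (hx : Order.coheight x = 1)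
    (hR1 : IsDiscreteValuationRing ((Spec A).presheaf.stalk x)) :
    ∃ y, polyProj A σ y = x ∧ Order.coheight y = 1 ∧ ∀ f : (Spec A).functionField,
      Scheme.ord (ffPull (polyProj A σ) (polyProj_specializes A σ) f) y = Scheme.ord f x := by
  have := x.2
  obtain ⟨π, hπ0, hπ, hgen, hrep⟩ := exists_param A hR1
  let y : Spec (PolyR A σ) := ⟨x.asIdeal.map C, isPrime_map_C A σ _⟩
  have hC : ∀ c, c ∉ x.asIdeal → C c ∉ y.asIdeal := fun c hc hmem => hc (by
    have : c ∈ (x.asIdeal.map (C : A →+* MvPolynomial σ A)).comap C := hmem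
    rwa [comap_map_C] at this)
  have hyq : polyProj A σ y = x := PrimeSpectrum.ext (comap_map_C A σ _)
  have hgen' : ∀ z ∈ y.asIdeal, ∃ c, c ∉ y.asIdeal ∧ C π ∣ c * z := by
    intro z hz
    suffices H : ∀ w ∈ x.asIdeal.map (C : A →+* MvPolynomial σ A), ∃ c, c ∉ x.asIdeal ∧ C π ∣ C c * w by
      obtain ⟨c, hc, h⟩ := H z hz
      exact ⟨C c, hC c hc, h⟩
    intro w hw
    induction hw using Submodule.span_induction with
    | mem w hw =>
      obtain ⟨a, ha, rfl⟩ := hw
      obtain ⟨c, hc, h⟩ := hgen a ha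
      exact ⟨c, hc, by rw [← map_mul]; exact map_dvd C h⟩
    | zero => exact ⟨1, fun h => x.2.ne_top ((Ideal.eq_top_iff_one _).2 h), by simp⟩
    | add v w _ _ hv hw =>
      obtain ⟨c, hc, h⟩ := hv
      obtain ⟨d, hd, h'⟩ := hw
      refine ⟨c * d, fun hm => (x.2.mem_or_mem hm).elim hc hd, ?_⟩
      rw [map_mul, show C c * C d * (v + w) = C d * (C c * v) + C c * (C d * w) by ring]
      exact dvd_add (h.mul_left _) (h'.mul_left _)
    | smul r v _ hv =>
      obtain ⟨c, hc, h⟩ := hv
      exact ⟨c, hc, by rw [smul_eq_mul, mul_left_comm]; exact h.mul_left _⟩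
  obtain ⟨hy, hord⟩ := ord_of_localGen (y := y) (π := C π)
    (by rwa [map_ne_zero_iff _ (MvPolynomial.C_injective σ A)]) (Ideal.mem_map_of_mem _ hπ) hgen'
  obtain ⟨-, hordA⟩ := ord_of_localGen (y := x) hπ0 hπ hgen
  refine ⟨y, hyq, hy, fun f => ?_⟩
  rcases eq_or_ne f 0 with rfl | hf
  · simp [Scheme.ord_zero]
  obtain ⟨a, b, hb, rfl⟩ := IsFractionRing.div_surjective (A := A) f
  have hb0 : b ≠ 0 := nonZeroDivisors.ne_zero hb
  have ha0 : a ≠ 0 := fun h => hf (by rw [h, map_zero, zero_div])
  obtain ⟨k, c, a', hc, ha', hca⟩ := hrep a ha0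
  obtain ⟨l, d, b', hd, hb', hdb⟩ := hrep b hb0
  have hK : ∀ z : A, z ≠ 0 → algebraMap A (Spec A).functionField z ≠ 0 := fun z hz => by
    rwa [map_ne_zero_iff _ (IsFractionRing.injective _ _)]
  have hne : ∀ z, z ∉ x.asIdeal → z ≠ 0 := fun z hz e => hz (e ▸ zero_mem _)
  have hnm : ∀ z w, z ∉ x.asIdeal → w ∉ x.asIdeal → z * w ∉ x.asIdeal :=
    fun z w hz hw hm => (x.2.mem_or_mem hm).elim hz hw
  have e : algebraMap A (Spec A).functionField a / algebraMap A (Spec A).functionField b =
      algebraMap A (Spec A).functionField π ^ ((k : ℤ) - l) *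
        algebraMap A (Spec A).functionField (a' * d) / algebraMap A (Spec A).functionField (b' * c) := by
    have e1 := congrArg (algebraMap A (Spec A).functionField) hca
    have e2 := congrArg (algebraMap A (Spec A).functionField) hdb
    simp only [map_mul, map_pow] at e1 e2 ⊢
    rw [zpow_sub₀ (hK π hπ0), zpow_natCast, zpow_natCast]
    have := hK b hb0
    have := hK c (hne c hc)
    have := hK d (hne d hd)
    have := hK b' (hne b' hb')
    have := hK π hπ0
    field_simp
    linear_combination (algebraMap A (Spec A).functionField π ^ l * algebraMap A (Spec A).functionField b') * e1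
      - (algebraMap A (Spec A).functionField π ^ k * algebraMap A (Spec A).functionField a') * e2
  rw [e, hordA _ _ _ (hnm _ _ ha' hd) (hnm _ _ hb' hc), map_div₀, map_mul, map_zpow₀, ffPull_algebraMap,
    ffPull_algebraMap, ffPull_algebraMap]
  exact hord _ _ _ (hC _ (hnm _ _ ha' hd)) (hC _ (hnm _ _ hb' hc))

/-- Vertical points of codimension one. -/
theorem vertical_point {y : Spec (PolyR A σ)} (hy : Order.coheight y = 1)
    (hne : polyProj A σ y ≠ genericPoint (Spec A)) :
    Order.coheight (polyProj A σ y) = 1 ∧ y.asIdeal = (polyProj A σ y).asIdeal.map C := by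
  have := y.2
  have h1 : y.asIdeal.height ≤ 1 := ((height_eq_coheight y).trans hy).le
  rw [Ne, polyProj_eq_generic_iff] at hne
  set p := y.asIdeal.comap (C : A →+* MvPolynomial σ A) with hp
  have hpp : p.IsPrime := Ideal.IsPrime.comap _
  have key : ∀ q : Ideal A, q.IsPrime → q ≠ ⊥ → q ≤ p → q.map C = y.asIdeal := fun q hq hq0 hle => by
    haveI := isPrime_map_C A σ q
    refine eq_of_le_of_height_le_one h1 ?_ ((Ideal.map_mono hle).trans Ideal.map_comap_le)
    rwa [Ne, Ideal.map_eq_bot_iff_of_injective (MvPolynomial.C_injective σ A)]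
  refine ⟨?_, (key p hpp hne le_rfl).symm⟩
  rw [← height_eq_coheight]
  change p.height = 1
  refine le_antisymm ?_ ?_
  · rw [← Nat.cast_one, Ideal.height_le_iff]
    intro q hq hqp
    by_cases h0 : q = ⊥
    · rw [h0, Ideal.height_bot]; norm_num
    · exfalso
      have := congrArg (Ideal.comap (C : A →+* MvPolynomial σ A))
        ((key q hq h0 hqp.le).trans (key p hpp hne le_rfl).symm)
      rw [comap_map_C, comap_map_C] at this
      exact hqp.ne this
  · have : (⊥ : Ideal A).FiniteHeight :=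
      Ideal.finiteHeight_iff_lt.2 (Or.inr (by rw [Ideal.height_bot]; exact ENat.natCast_lt_top 0))
    have h2 := Ideal.height_strict_mono_of_isPrime (I := (⊥ : Ideal A)) (bot_lt_iff_ne_bot.2 hne : ⊥ < p)
    rw [Ideal.height_bot] at h2
    rwa [Order.one_le_iff_ne_zero, ← pos_iff_ne_zero]

variable (K : Type u) [Field K] [Algebra A K] [IsFractionRing A K]

theorem map_C_injective : Function.Injective (MvPolynomial.map (σ := σ) (algebraMap A K)) :=
  MvPolynomial.map_injective _ (IsFractionRing.injective A K)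

theorem exists_clear (s : MvPolynomial σ K) : ∃ (a : MvPolynomial σ A) (d : A), d ≠ 0 ∧
    MvPolynomial.map (algebraMap A K) a = s * C (algebraMap A K d) := by
  letI := MvPolynomial.algebraMvPolynomial (σ := σ) (R := A) (S := K)
  obtain ⟨⟨a, ⟨m, hm⟩⟩, h⟩ := IsLocalization.surj ((nonZeroDivisors A).map (C (σ := σ))) s
  obtain ⟨d, hd, rfl⟩ := hm
  refine ⟨a, d, nonZeroDivisors.ne_zero hd, h.symm.trans ?_⟩
  change s * MvPolynomial.map (algebraMap A K) (C d) = _
  rw [MvPolynomial.map_C]

/-- The data of a horizontal point of codimension one cut out by a prime over the fraction field. -/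
theorem horizontal_data {π : MvPolynomial σ A}
    (hπ : Prime (MvPolynomial.map (algebraMap A K) π)) :
    ∃ z : Spec (PolyR A σ), π ∈ z.asIdeal ∧ z.asIdeal.comap C = ⊥ ∧
      (∀ a, a ∈ z.asIdeal ↔ MvPolynomial.map (algebraMap A K) π ∣ MvPolynomial.map (algebraMap A K) a) ∧
      Order.coheight z = 1 ∧ ∀ (a b : MvPolynomial σ A) (k : ℤ), a ∉ z.asIdeal → b ∉ z.asIdeal →
        Scheme.ord (algebraMap (MvPolynomial σ A) (Spec (PolyR A σ)).functionField π ^ k *
          algebraMap (MvPolynomial σ A) (Spec (PolyR A σ)).functionField a /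
          algebraMap (MvPolynomial σ A) (Spec (PolyR A σ)).functionField b) z = k := by
  have hprime : (Ideal.span {MvPolynomial.map (algebraMap A K) π}).IsPrime :=
    (Ideal.span_singleton_prime hπ.ne_zero).2 hπ
  let z : Spec (PolyR A σ) :=
    ⟨(Ideal.span {MvPolynomial.map (algebraMap A K) π}).comap (MvPolynomial.map (algebraMap A K)),
      Ideal.IsPrime.comap _⟩
  have hmem : ∀ a, a ∈ z.asIdeal ↔ MvPolynomial.map (algebraMap A K) π ∣ MvPolynomial.map (algebraMap A K) a :=
    fun a => Ideal.mem_span_singleton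
  have hbot : z.asIdeal.comap (C : A →+* MvPolynomial σ A) = ⊥ := by
    refine (Submodule.eq_bot_iff _).2 fun c hc => ?_
    by_contra hc0
    have hu : IsUnit (MvPolynomial.map (algebraMap A K) (C c) : MvPolynomial σ K) := by
      rw [MvPolynomial.map_C]
      exact (isUnit_iff_ne_zero.2 (by rwa [map_ne_zero_iff _ (IsFractionRing.injective A K)])).map C
    exact hπ.not_isUnit (isUnit_of_dvd_unit ((hmem _).1 hc) hu)
  have hgen : ∀ a ∈ z.asIdeal, ∃ c, c ∉ z.asIdeal ∧ π ∣ c * a := fun a ha => by
    obtain ⟨s, hs⟩ := (hmem a).1 ha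
    obtain ⟨r, d, hd, hr⟩ := exists_clear A σ K s
    refine ⟨C d, fun hdm => hd ?_, r, map_C_injective A σ K ?_⟩
    · have : d ∈ z.asIdeal.comap (C : A →+* MvPolynomial σ A) := hdm
      rwa [hbot, Ideal.mem_bot] at this
    · rw [map_mul, map_mul, hr, hs, MvPolynomial.map_C]
      ring
  have hπ0 : π ≠ 0 := fun h => hπ.ne_zero (by rw [h, map_zero])
  have hπz : π ∈ z.asIdeal := (hmem π).2 dvd_rfl
  obtain ⟨hz, hord⟩ := ord_of_localGen (y := z) hπ0 hπz hgen
  exact ⟨z, hπz, hbot, hmem, hz, hord⟩

/-- A function with neither zeros nor poles over the generic point comes from the base. -/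
theorem mem_range_of_horizontal (g : (Spec (PolyR A σ)).functionField) (hg : g ≠ 0)
    (h : ∀ y, Order.coheight y = 1 → polyProj A σ y = genericPoint (Spec A) → Scheme.ord g y = 0) :
    ∃ f : (Spec A).functionField, f ≠ 0 ∧ ffPull (polyProj A σ) (polyProj_specializes A σ) f = g := by
  classical
  let K := (Spec A).functionField
  let φ := MvPolynomial.map (σ := σ) (algebraMap A K)
  set am := algebraMap (MvPolynomial σ A) (Spec (PolyR A σ)).functionField
  obtain ⟨a, b, hb, rfl⟩ := IsFractionRing.div_surjective (A := MvPolynomial σ A) g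
  have hb0 : b ≠ 0 := nonZeroDivisors.ne_zero hb
  have ha0 : a ≠ 0 := fun h0 => hg (by rw [h0, map_zero, zero_div])
  have hφ : Function.Injective φ := map_C_injective A σ K
  obtain ⟨a', b', c, hrel, hca, hcb⟩ := UniqueFactorizationMonoid.exists_reduced_factors' (φ a) (φ b)
    (by rwa [map_ne_zero_iff φ hφ])
  obtain ⟨a₁, d, hd, ha₁⟩ := exists_clear A σ K a'
  obtain ⟨b₁, e, he, hb₁⟩ := exists_clear A σ K b'
  have ha'0 : a' ≠ 0 := fun h0 => ha0 (hφ (by rw [map_zero, ← hca, h0, mul_zero]))
  have hb'0 : b' ≠ 0 := fun h0 => hb0 (hφ (by rw [map_zero, ← hcb, h0, mul_zero]))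
  have hCu : ∀ t : A, t ≠ 0 → IsUnit (C (algebraMap A K t) : MvPolynomial σ K) := fun t ht =>
    (isUnit_iff_ne_zero.2 (by rwa [map_ne_zero_iff _ (IsFractionRing.injective A K)])).map C
  have hcross : a * b₁ * C d = b * a₁ * C e := hφ (by
    simp only [φ] at hca hcb ⊢
    simp only [map_mul, ha₁, hb₁, MvPolynomial.map_C, ← hca, ← hcb]
    ring)
  have hne : ∀ t : MvPolynomial σ A, t ≠ 0 → am t ≠ 0 := fun t ht => by
    rwa [map_ne_zero_iff _ (IsFractionRing.injective _ _)]
  have hC : ∀ t : A, t ≠ 0 → (C t : MvPolynomial σ A) ≠ 0 := fun t ht => by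
    rwa [map_ne_zero_iff _ (MvPolynomial.C_injective σ A)]
  have hb₁0 : b₁ ≠ 0 := fun h0 => mul_ne_zero hb'0 (hCu e he).ne_zero (by rw [← hb₁, h0, map_zero])
  have ha₁0 : a₁ ≠ 0 := fun h0 => mul_ne_zero ha'0 (hCu d hd).ne_zero (by rw [← ha₁, h0, map_zero])
  have hg' : am a / am b = am a₁ * am (C e) / (am b₁ * am (C d)) := by
    rw [div_eq_div_iff (hne b hb0) (mul_ne_zero (hne _ hb₁0) (hne _ (hC d hd))), ← map_mul, ← map_mul,
      ← map_mul, ← map_mul]
    congr 1
    linear_combination hcross
  -- neither numerator nor denominator has a prime factor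
  have key : ∀ (r s : MvPolynomial σ K) (r₁ s₁ : MvPolynomial σ A) (dr ds : A), dr ≠ 0 → ds ≠ 0 →
      φ r₁ = r * C (algebraMap A K dr) → φ s₁ = s * C (algebraMap A K ds) → IsRelPrime r s → r ≠ 0 →
      (∀ y, Order.coheight y = 1 → polyProj A σ y = genericPoint (Spec A) →
        Scheme.ord (am r₁ * am (C ds) / (am s₁ * am (C dr))) y = 0) → IsUnit r := by
    intro r s r₁ s₁ dr ds hdr hds hr₁ hs₁ hrs hr0 hord
    by_contra hu
    obtain ⟨p, hp, hpr⟩ := WfDvdMonoid.exists_irreducible_factor hu hr0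
    obtain ⟨π, dp, hdp, hπ⟩ := exists_clear A σ K p
    have hpp : Prime (φ π) := by
      rw [show φ π = p * C (algebraMap A K dp) from hπ]
      exact (associated_mul_unit_right p _ (hCu dp hdp)).prime (UniqueFactorizationMonoid.irreducible_iff_prime.1 hp)
    obtain ⟨z, hπz, hbot, hmem, hz, hzord⟩ := horizontal_data A σ K hpp
    have hps : ¬ φ π ∣ s := fun hps => hpp.not_isUnit (hrs (by
      rw [show φ π = p * C (algebraMap A K dp) from hπ]
      exact (hCu dp hdp).mul_right_dvd.2 hpr) hps)
    have hconst : ∀ t : A, t ≠ 0 → C t ∉ z.asIdeal := fun t ht hm => ht (by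
      have : t ∈ z.asIdeal.comap (C : A →+* MvPolynomial σ A) := hm
      rwa [hbot, Ideal.mem_bot] at this)
    have hnm : ∀ v w, v ∉ z.asIdeal → w ∉ z.asIdeal → v * w ∉ z.asIdeal :=
      fun v w hv hw hm => (z.2.mem_or_mem hm).elim hv hw
    have hs₁z : s₁ ∉ z.asIdeal := fun hm => hps (by
      have := (hmem s₁).1 hm
      change φ π ∣ φ s₁ at this
      rwa [hs₁, (hCu ds hds).dvd_mul_right] at this)
    have hr₁0 : φ r₁ ≠ 0 := by rw [hr₁]; exact mul_ne_zero hr0 (hCu dr hdr).ne_zero
    obtain ⟨k, w, hw, hkw⟩ := WfDvdMonoid.max_power_factor hr₁0 hpp.irreducible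
    have hk : k ≠ 0 := fun h0 => by
      refine hw ?_
      rw [h0, pow_zero, one_mul] at hkw
      rw [← hkw, hr₁, (hCu dr hdr).dvd_mul_right, show φ π = p * C (algebraMap A K dp) from hπ]
      exact (hCu dp hdp).mul_right_dvd.2 hpr
    obtain ⟨w₁, dw, hdw, hw₁⟩ := exists_clear A σ K w
    have hw₁z : w₁ ∉ z.asIdeal := fun hm => hw (by
      have := (hmem w₁).1 hm
      change φ π ∣ φ w₁ at this
      rwa [show φ w₁ = _ from hw₁, (hCu dw hdw).dvd_mul_right] at this)
    have hrw : r₁ * C dw = π ^ k * w₁ := hφ (by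
      rw [map_mul, map_mul, map_pow, hkw, show φ w₁ = _ from hw₁]
      simp only [φ, MvPolynomial.map_C]
      ring)
    have e1 : am r₁ * am (C ds) / (am s₁ * am (C dr)) =
        am π ^ (k : ℤ) * am (w₁ * C ds) / am (s₁ * C dr * C dw) := by
      have h2 := congrArg am hrw
      simp only [map_mul, map_pow] at h2 ⊢
      rw [zpow_natCast]
      have := hne _ (hC dr hdr)
      have := hne _ (hC dw hdw)
      have := hne s₁ fun e => hs₁z (e ▸ zero_mem _)
      field_simp
      linear_combination (am (C ds)) * h2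
    have h3 := hord z hz ((polyProj_eq_generic_iff A σ z).2 hbot)
    rw [e1, hzord _ _ _ (hnm _ _ hw₁z (hconst ds hds)) (hnm _ _ (hnm _ _ hs₁z (hconst dr hdr)) (hconst dw hdw))]
      at h3
    exact hk (by exact_mod_cast h3)
  have hau : IsUnit a' := key a' b' a₁ b₁ d e hd he ha₁ hb₁ hrel ha'0 fun y hy hyg => by
    rw [← hg']; exact h y hy hyg
  have hbu : IsUnit b' := key b' a' b₁ a₁ e d he hd hb₁ ha₁ hrel.symm hb'0 fun y hy hyg => by
    have h4 := h y hy hyg
    rw [hg', Scheme.ord_eq_iff hy (div_ne_zero (mul_ne_zero (hne _ ha₁0) (hne _ (hC e he)))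
      (mul_ne_zero (hne _ hb₁0) (hne _ (hC d hd))))] at h4
    rw [← inv_div (am a₁ * am (C e)), Scheme.ord_eq_iff hy (inv_ne_zero (div_ne_zero
      (mul_ne_zero (hne _ ha₁0) (hne _ (hC e he))) (mul_ne_zero (hne _ hb₁0) (hne _ (hC d hd))))), map_inv₀, h4]
    exact inv_one
  -- so both are constants
  have hconst : ∀ (t : MvPolynomial σ A) (t' : MvPolynomial σ K) (dt : A), IsUnit t' → dt ≠ 0 →
      φ t = t' * C (algebraMap A K dt) → ∃ α : A, t = C α := fun t t' dt ht hdt he => by
    obtain ⟨-, h0⟩ := MvPolynomial.isUnit_iff_totalDegree_of_isReduced.1 (he ▸ ht.mul (hCu dt hdt) :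
      IsUnit (φ t))
    rw [totalDegree_map_inj σ (IsFractionRing.injective A K)] at h0
    exact ⟨_, MvPolynomial.totalDegree_eq_zero_iff_eq_C.1 h0⟩
  obtain ⟨α, rfl⟩ := hconst a₁ a' d hau hd ha₁
  obtain ⟨β, rfl⟩ := hconst b₁ b' e hbu he hb₁
  have hα : α ≠ 0 := fun h0 => ha₁0 (by rw [h0, map_zero])
  have hβ : β ≠ 0 := fun h0 => hb₁0 (by rw [h0, map_zero])
  refine ⟨algebraMap A K (α * e) / algebraMap A K (β * d), div_ne_zero ?_ ?_, ?_⟩
  · rw [map_ne_zero_iff _ (IsFractionRing.injective A K)]; exact mul_ne_zero hα he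
  · rw [map_ne_zero_iff _ (IsFractionRing.injective A K)]; exact mul_ne_zero hβ hd
  · rw [map_div₀, ffPull_algebraMap, ffPull_algebraMap, hg', ← map_mul, ← map_mul, ← map_mul, ← map_mul]
    rfl

/-- A function isolating a horizontal point of codimension one. -/
theorem exists_horizontal_fun {y : Spec (PolyR A σ)} (hy : Order.coheight y = 1)
    (hyg : polyProj A σ y = genericPoint (Spec A)) :
    ∃ g : (Spec (PolyR A σ)).functionField, g ≠ 0 ∧ Scheme.ord g y = 1 ∧
      ∀ y', y' ≠ y → Order.coheight y' = 1 → polyProj A σ y' = genericPoint (Spec A) → Scheme.ord g y' = 0 := by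
  classical
  let K := (Spec A).functionField
  let φ := MvPolynomial.map (σ := σ) (algebraMap A K)
  have := y.2
  have h1 : y.asIdeal.height = 1 := (height_eq_coheight y).trans hy
  have hne : y.asIdeal ≠ ⊥ := fun e => by rw [e, Ideal.height_bot] at h1; exact zero_ne_one h1
  rw [polyProj_eq_generic_iff] at hyg
  obtain ⟨a, ha, ha0⟩ := Submodule.exists_mem_ne_zero_of_ne_bot hne
  have hφ : Function.Injective φ := map_C_injective A σ K
  -- a prime factor of `a` inside `y`
  have hfac : ∀ q : MvPolynomial σ K, q ≠ 0 → ∀ (r : MvPolynomial σ A) (dr : A), dr ≠ 0 →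
      φ r = q * C (algebraMap A K dr) → r ∈ y.asIdeal → ∃ π ∈ y.asIdeal, Prime (φ π) := by
    intro q
    induction q using UniqueFactorizationMonoid.induction_on_prime with
    | h₁ => exact fun h => (h rfl).elim
    | h₂ q hq =>
      intro _ r dr hdr hr hm
      exfalso
      have hu : IsUnit (φ r) := by
        rw [hr]
        exact hq.mul ((isUnit_iff_ne_zero.2 (by rwa [map_ne_zero_iff _ (IsFractionRing.injective A K)])).map C)
      obtain ⟨-, h0⟩ := MvPolynomial.isUnit_iff_totalDegree_of_isReduced.1 hu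
      rw [totalDegree_map_inj σ (IsFractionRing.injective A K)] at h0
      obtain ⟨α, rfl⟩ : ∃ α, r = C α := ⟨_, MvPolynomial.totalDegree_eq_zero_iff_eq_C.1 h0⟩
      have hα : α ∈ y.asIdeal.comap (C : A →+* MvPolynomial σ A) := hm
      rw [hyg, Ideal.mem_bot] at hα
      rw [hα, map_zero, map_zero] at hu
      exact not_isUnit_zero hu
    | h₃ q p hq0 hp ih =>
      intro _ r dr hdr hr hm
      obtain ⟨π, dp, hdp, hπ⟩ := exists_clear A σ K p
      obtain ⟨q₁, dq, hdq, hq₁⟩ := exists_clear A σ K q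
      have e : r * (C dp * C dq) = π * (q₁ * C dr) := hφ (by
        simp only [map_mul, hr, show φ π = _ from hπ, show φ q₁ = _ from hq₁]
        simp only [φ, MvPolynomial.map_C]
        ring)
      have hm2 : π * (q₁ * C dr) ∈ y.asIdeal := e ▸ Ideal.mul_mem_right _ _ hm
      rcases y.2.mem_or_mem hm2 with h | h
      · refine ⟨π, h, ?_⟩
        rw [show φ π = _ from hπ]
        exact (associated_mul_unit_right p _ ((isUnit_iff_ne_zero.2
          (by rwa [map_ne_zero_iff _ (IsFractionRing.injective A K)])).map C)).prime hp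
      · rcases y.2.mem_or_mem h with h | h
        · exact ih hq0 q₁ dq hdq hq₁ h
        · have hα : dr ∈ y.asIdeal.comap (C : A →+* MvPolynomial σ A) := h
          rw [hyg, Ideal.mem_bot] at hα
          exact (hdr hα).elim
  obtain ⟨π, hπy, hπ⟩ := hfac (φ a) (by rwa [map_ne_zero_iff φ hφ]) a 1 one_ne_zero (by simp) ha
  obtain ⟨z, hπz, hbot, hmem, hz, hzord⟩ := horizontal_data A σ K hπ
  have hzne : z.asIdeal ≠ ⊥ := fun e => by
    have h2 := (height_eq_coheight z).trans hz
    rw [e, Ideal.height_bot] at h2; exact zero_ne_one h2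
  -- `z` is contained in every prime containing `π` which is horizontal
  have hle : ∀ w : Spec (PolyR A σ), Order.coheight w = 1 →
      w.asIdeal.comap (C : A →+* MvPolynomial σ A) = ⊥ → π ∈ w.asIdeal → z = w := by
    intro w hw hwb hπw
    have := z.2
    have := w.2
    refine PrimeSpectrum.ext (eq_of_le_of_height_le_one ((height_eq_coheight w).trans hw).le hzne ?_)
    intro t ht
    obtain ⟨s, hs⟩ := (hmem t).1 ht
    obtain ⟨s₁, ds, hds, hs₁⟩ := exists_clear A σ K s
    have e : t * C ds = π * s₁ := hφ (by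
      rw [map_mul, map_mul, show φ t = _ from hs, show φ s₁ = _ from hs₁]
      simp only [φ, MvPolynomial.map_C]
      ring)
    refine (w.2.mem_or_mem (e ▸ Ideal.mul_mem_right _ _ hπw)).resolve_right fun hm => hds ?_
    have : ds ∈ w.asIdeal.comap (C : A →+* MvPolynomial σ A) := hm
    rwa [hwb, Ideal.mem_bot] at this
  obtain rfl := hle y hy hyg hπy
  have hπ0 : π ≠ 0 := fun h0 => hπ.ne_zero (by rw [h0, map_zero])
  refine ⟨algebraMap _ _ π, by rwa [map_ne_zero_iff _ (IsFractionRing.injective _ _)], ?_, fun w hne hw hwg => ?_⟩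
  · have h1 : (1 : MvPolynomial σ A) ∉ z.asIdeal := fun h => z.2.ne_top ((Ideal.eq_top_iff_one _).2 h)
    have := hzord 1 1 1 h1 h1
    rwa [map_one, zpow_one, mul_one, div_one] at this
  · rw [polyProj_eq_generic_iff] at hwg
    rw [Scheme.ord_eq_iff hw (by rwa [map_ne_zero_iff _ (IsFractionRing.injective _ _)])]
    exact ord_of_notMem hw fun hm => hne (hle w hw hwg hm).symm

end Groth.Funfld2.WDiv
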