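import Mathlib.AlgebraicGeometry.OrderOfVanishing
import Mathlib.RingTheory.UniqueFactorizationDomain.Ideal
import Mathlib.RingTheory.Ideal.KrullsHeightTheorem
import Mathlib.RingTheory.DiscreteValuationRing.TFAE

/-! Divisors on the spectrum of a factorial ring are principal. -/

set_option linter.style.haveILetI false

universe u

open CategoryTheory AlgebraicGeometry

namespace Groth.Funfld2.WDiv

theorem exists_ord_eq_of_ufd (R : CommRingCat.{u}) [IsDomain R] [IsNoetherianRing R]
    [UniqueFactorizationMonoid R] (D : ↥(Spec R) → ℤ)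
    (hD : ∀ x, Order.coheight x ≠ 1 → D x = 0) (hfin : {x | D x ≠ 0}.Finite) :
    ∃ f : ↑(Spec R).functionField, f ≠ 0 ∧
      ∀ x : ↥(Spec R), Order.coheight x = 1 → Scheme.ord f x = D x := by
  classical
  have hsub : ∀ x : ↥(Spec R), x ∈ hfin.toFinset → Order.coheight x = 1 := fun x hx => by
    by_contra h
    exact (hfin.mem_toFinset.1 hx) (hD x h)
  -- a generator of every height one prime
  have hgen : ∀ x : ↥(Spec R), Order.coheight x = 1 →
      ∃ π : R, Prime π ∧ x.asIdeal = Ideal.span {π} := by
    intro x hx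
    have := x.2
    have h1 : x.asIdeal.height = 1 := by
      have h := ringKrullDim_stalk_eq_coheight (X := Spec R) x
      letI : Algebra R ((Spec R).presheaf.stalk x) := StructureSheaf.stalkAlgebra (R := R) x
      haveI : IsLocalization.AtPrime ((Spec R).presheaf.stalk x) x.asIdeal :=
        StructureSheaf.IsLocalization.to_stalk R x
      rw [IsLocalization.AtPrime.ringKrullDim_eq_height x.asIdeal, hx] at h
      exact WithBot.coe_injective h
    have hne : x.asIdeal ≠ ⊥ := fun e => by rw [e, Ideal.height_bot] at h1; exact zero_ne_one h1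
    obtain ⟨π, hπ, hprime⟩ := Ideal.IsPrime.exists_mem_prime_of_ne_bot inferInstance hne
    refine ⟨π, hprime, ?_⟩
    have hI : (Ideal.span {π}).IsPrime := (Ideal.span_singleton_prime hprime.ne_zero).2 hprime
    refine (((Ideal.span_singleton_le_iff_mem _).2 hπ).eq_or_lt.resolve_right fun hlt => ?_).symm
    have : (Ideal.span {π}).FiniteHeight := Ideal.finiteHeight_iff_lt.2 (Or.inr
      (lt_of_le_of_lt (Ideal.height_mono hlt.le) (by rw [h1]; exact ENat.natCast_lt_top 1)))
    have : (⊥ : Ideal R).FiniteHeight :=
      Ideal.finiteHeight_iff_lt.2 (Or.inr (by rw [Ideal.height_bot]; exact ENat.natCast_lt_top 0))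
    have h2 := Ideal.height_strict_mono_of_isPrime_of_isPrime hlt
    have h3 := Ideal.height_strict_mono_of_isPrime (I := (⊥ : Ideal R)) (bot_lt_iff_ne_bot.2
      (fun e => hprime.ne_zero (Ideal.span_singleton_eq_bot.1 e)) : ⊥ < Ideal.span {π})
    rw [Ideal.height_bot] at h3
    rw [h1, Order.lt_one_iff] at h2
    exact h3.ne' h2
  choose π hπp hπ using hgen
  let g : ↥(Spec R) → R := fun x => if h : Order.coheight x = 1 then π x h else 1
  have hg0 : ∀ x, algebraMap R (Spec R).functionField (g x) ≠ 0 := fun x => by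
    rw [map_ne_zero_iff _ (IsFractionRing.injective _ _)]
    simp only [g]; split_ifs with h
    exacts [(hπp x h).ne_zero, one_ne_zero]
  refine ⟨∏ x ∈ hfin.toFinset, algebraMap R (Spec R).functionField (g x) ^ D x,
    Finset.prod_ne_zero_iff.2 fun x _ => zpow_ne_zero _ (hg0 x), fun y hy => ?_⟩
  have := y.2
  letI : Algebra R ((Spec R).presheaf.stalk y) := StructureSheaf.stalkAlgebra (R := R) y
  haveI : IsLocalization.AtPrime ((Spec R).presheaf.stalk y) y.asIdeal :=
    StructureSheaf.IsLocalization.to_stalk R y
  have htower : ∀ a : R, algebraMap R (Spec R).functionField a =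
      algebraMap ((Spec R).presheaf.stalk y) (Spec R).functionField (algebraMap R ((Spec R).presheaf.stalk y) a) := by
    intro a
    have h := StructureSheaf.toStalk_stalkSpecializes (R := R)
      ((genericPoint_spec ↥(Spec R)).specializes (Set.mem_univ y))
    exact (congrArg (fun φ => (CommRingCat.Hom.hom φ) a) h).symm
  have : Ring.KrullDimLE 1 ((Spec R).presheaf.stalk y) := krullDimLE_of_coheight_le hy.le
  have hmax : IsLocalRing.maximalIdeal ((Spec R).presheaf.stalk y) =
      Ideal.span {algebraMap R ((Spec R).presheaf.stalk y) (π y hy)} := by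
    rw [← IsLocalization.AtPrime.map_eq_maximalIdeal y.asIdeal ((Spec R).presheaf.stalk y), hπ y hy, Ideal.map_span,
      Set.image_singleton]
  have hnf : ¬ IsField ((Spec R).presheaf.stalk y) := fun hf => by
    rw [IsLocalRing.isField_iff_maximalIdeal_eq, hmax, Ideal.span_singleton_eq_bot] at hf
    have := htower (π y hy)
    rw [hf, map_zero, map_eq_zero_iff _ (IsFractionRing.injective _ _)] at this
    exact (hπp y hy).ne_zero this
  have : IsDiscreteValuationRing ((Spec R).presheaf.stalk y) :=
    ((IsDiscreteValuationRing.TFAE ((Spec R).presheaf.stalk y) hnf).out 0 4).2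
      (show (IsLocalRing.maximalIdeal ((Spec R).presheaf.stalk y)).IsPrincipal from ⟨_, hmax⟩)
  have hval : ∀ x ∈ hfin.toFinset,
      Scheme.ordHom y hy (algebraMap R (Spec R).functionField (g x)) =
        WithZero.exp (if x = y then 1 else 0) := by
    intro x hx
    have hg : g x = π x (hsub x hx) := dif_pos (hsub x hx)
    rw [hg, htower]
    split_ifs with hxy
    · subst hxy
      exact Ring.ordFrac_irreducible ((IsDiscreteValuationRing.irreducible_iff_uniformizer _).2 hmax)
    · refine Ring.ordFrac_of_isUnit ?_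
      have hmem : π x (hsub x hx) ∉ y.asIdeal := fun hm => hxy (PrimeSpectrum.ext (by
        rw [hπ y hy] at hm ⊢
        rw [Ideal.mem_span_singleton] at hm
        rw [hπ x (hsub x hx), Ideal.span_singleton_eq_span_singleton]
        exact ((hπp y hy).associated_of_dvd (hπp x (hsub x hx)) hm).symm))
      exact IsLocalization.map_units (M := y.asIdeal.primeCompl) ((Spec R).presheaf.stalk y) ⟨_, hmem⟩
  rw [Scheme.ord_eq_iff hy (Finset.prod_ne_zero_iff.2 fun x _ => zpow_ne_zero _ (hg0 x)), map_prod,
    Finset.prod_congr rfl fun x hx => by rw [map_zpow₀, hval x hx]]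
  show _ = WithZero.exp (D y)
  by_cases hy' : y ∈ hfin.toFinset
  · rw [Finset.prod_eq_single_of_mem y hy' fun x _ hne => by
      rw [if_neg hne, WithZero.exp_zero, one_zpow]]
    rw [if_pos rfl, ← WithZero.exp_zsmul, smul_eq_mul, mul_one]
  · rw [Finset.prod_eq_one fun x hx => by
      rw [if_neg (fun e : x = y => hy' (e ▸ hx)), WithZero.exp_zero, one_zpow]]
    rw [hfin.mem_toFinset] at hy'
    rw [not_not.1 hy', WithZero.exp_zero]

end Groth.Funfld2.WDiv
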